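import Mathlib.AlgebraicGeometry.Modules.Sheaf
import Mathlib.Algebra.Category.ModuleCat.Stalk
import Mathlib.Topology.Sheaves.LocallySurjective
import Mathlib.CategoryTheory.Abelian.Exact
import Groth.Agent.ModGroth.Basic
import Groth.Prelude.Def_FlatMod2

/-!
# O_X-modules: monomorphisms, epimorphisms and stalks

* `mono_iff_app_injective`, `epi_iff_locally_surjective`, `epi_iff_stalk_surjective`,
  `mono_iff_stalk_injective`, `isIso_iff_stalk_bijective`, `section_ext`.
* `stalkLinearMap φ x`: the stalk map as a linear map over the local ring.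
-/

universe u

open CategoryTheory CategoryTheory.Limits AlgebraicGeometry TopologicalSpace Opposite

namespace Groth.Agent.QCohLib

variable {X : Scheme.{u}} {M N : X.Modules}

/-- The forgetful functor from O_X-modules to abelian sheaves (same as `Coh.toAb`). -/
noncomputable abbrev toSh (X : Scheme.{u}) :
    X.Modules ⥤ Sheaf (Opens.grothendieckTopology X) AddCommGrpCat.{u} :=
  SheafOfModules.toSheaf X.ringCatSheaf

instance (X : Scheme.{u}) : (toSh X).Faithful :=
  inferInstanceAs (SheafOfModules.toSheaf.{u} X.ringCatSheaf).Faithful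

instance (X : Scheme.{u}) : PreservesFiniteColimits (toSh X) :=
  have : PreservesColimitsOfSize.{u, u} (toSh X) :=
    ModGroth.toSheaf_preservesColimits X.ringCatSheaf
  PreservesColimits.preservesFiniteColimits _

/-- The underlying morphism of abelian sheaves. -/
noncomputable abbrev sheafMap (φ : M ⟶ N) := (toSh X).map φ

/-- Restricting twice. -/
theorem map_map (M : X.Modules) {U V W : X.Opens} (h₁ : U ≤ V) (h₂ : V ≤ W) (x : Γ(M, W)) :
    M.presheaf.map (homOfLE h₁).op (M.presheaf.map (homOfLE h₂).op x) =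
      M.presheaf.map (homOfLE (h₁.trans h₂)).op x := by
  rw [← CategoryTheory.comp_apply, ← Functor.map_comp]
  rfl

theorem map_self (M : X.Modules) {U : X.Opens} (h : U ≤ U) (x : Γ(M, U)) :
    M.presheaf.map (homOfLE h).op x = x := by
  rw [show (homOfLE h).op = 𝟙 (op U) from rfl, CategoryTheory.Functor.map_id]
  rfl

/-- Restricting scalars twice. -/
theorem ring_map_map {U V W : X.Opens} (h₁ : U ≤ V) (h₂ : V ≤ W) (x : Γ(X, W)) :
    X.presheaf.map (homOfLE h₁).op (X.presheaf.map (homOfLE h₂).op x) =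
      X.presheaf.map (homOfLE (h₁.trans h₂)).op x := by
  rw [← CategoryTheory.comp_apply, ← Functor.map_comp]
  rfl

theorem app_map (φ : M ⟶ N) {U V : X.Opens} (h : U ≤ V) (x : Γ(M, V)) :
    φ.app U (M.presheaf.map (homOfLE h).op x) = N.presheaf.map (homOfLE h).op (φ.app V x) :=
  ConcreteCategory.congr_hom (φ.mapPresheaf.naturality (homOfLE h).op) x

theorem mono_iff_app_injective (φ : M ⟶ N) :
    Mono φ ↔ ∀ U : X.Opens, Function.Injective (φ.app U) := by
  refine ⟨fun h U => ?_, fun h => ?_⟩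
  · have : Mono ((Scheme.Modules.toPresheaf X).map φ) := inferInstance
    have := (NatTrans.mono_iff_mono_app _).mp this (op U)
    exact (AddCommGrpCat.mono_iff_injective _).mp this
  · refine (Scheme.Modules.toPresheaf X).mono_of_mono_map ?_
    rw [NatTrans.mono_iff_mono_app]
    exact fun U => (AddCommGrpCat.mono_iff_injective _).mpr (h U.unop)

theorem epi_iff_sheafMap_epi (φ : M ⟶ N) : Epi φ ↔ Epi (sheafMap φ) := by
  exact ⟨fun _ => inferInstance, fun h => Functor.epi_of_epi_map (toSh X) h⟩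

theorem epi_iff_isLocallySurjective (φ : M ⟶ N) :
    Epi φ ↔ TopCat.Presheaf.IsLocallySurjective φ.mapPresheaf := by
  rw [epi_iff_sheafMap_epi]
  exact (TopCat.Sheaf.isLocallySurjective_iff_epi (sheafMap φ)).symm

/-- An epimorphism of O_X-modules is surjective on sections, locally. -/
theorem epi_iff_locally_surjective (φ : M ⟶ N) :
    Epi φ ↔ ∀ (U : X.Opens) (t : Γ(N, U)), ∀ x ∈ U, ∃ (V : X.Opens) (h : V ≤ U),
      (∃ s : Γ(M, V), φ.app V s = N.presheaf.map (homOfLE h).op t) ∧ x ∈ V := by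
  rw [epi_iff_isLocallySurjective, TopCat.Presheaf.isLocallySurjective_iff]
  rfl

theorem epi_of_app_surjective (φ : M ⟶ N) {B : Set X.Opens} (hB : Opens.IsBasis B)
    (h : ∀ U ∈ B, Function.Surjective (φ.app U)) : Epi φ := by
  rw [epi_iff_locally_surjective]
  intro U t x hx
  obtain ⟨V, hV, hxV, hVU⟩ := Opens.isBasis_iff_nbhd.mp hB hx
  exact ⟨V, hVU, h V hV _, hxV⟩

/-- The map induced on stalks. -/
noncomputable def stalkHom (φ : M ⟶ N) (x : X) : M.presheaf.stalk x ⟶ N.presheaf.stalk x :=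
  (TopCat.Presheaf.stalkFunctor AddCommGrpCat.{u} x).map φ.mapPresheaf

@[simp]
theorem stalkHom_germ (φ : M ⟶ N) (U : X.Opens) (x : X) (hx : x ∈ U) (s : Γ(M, U)) :
    stalkHom φ x (M.presheaf.germ U x hx s) = N.presheaf.germ U x hx (φ.app U s) :=
  TopCat.Presheaf.stalkFunctor_map_germ_apply U x hx φ.mapPresheaf s

theorem stalkHom_id (x : X) (m : M.presheaf.stalk x) : stalkHom (𝟙 M) x m = m := by
  obtain ⟨U, hx, s, rfl⟩ := M.presheaf.exists_germ_eq m
  rw [stalkHom_germ]; rfl

theorem stalkHom_comp {K : X.Modules} (φ : M ⟶ N) (ψ : N ⟶ K) (x : X) (m : M.presheaf.stalk x) :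
    stalkHom (φ ≫ ψ) x m = stalkHom ψ x (stalkHom φ x m) := by
  obtain ⟨U, hx, s, rfl⟩ := M.presheaf.exists_germ_eq m
  rw [stalkHom_germ, stalkHom_germ, stalkHom_germ]; rfl

theorem stalkHom_zero (x : X) (m : M.presheaf.stalk x) : stalkHom (0 : M ⟶ N) x m = 0 := by
  obtain ⟨U, hx, s, rfl⟩ := M.presheaf.exists_germ_eq m
  rw [stalkHom_germ]
  exact map_zero (N.presheaf.germ U x hx).hom

theorem germ_smul (U : X.Opens) (x : X) (hx : x ∈ U) (r : Γ(X, U)) (m : Γ(M, U)) :
    M.presheaf.germ U x hx (r • m) =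
      X.presheaf.germ U x hx r • (M.presheaf.germ U x hx m : M.presheaf.stalk x) :=
  PresheafOfModules.germ_smul M.val x U hx r m

/-- The stalk map as a linear map over the local ring. -/
noncomputable def stalkLinearMap (φ : M ⟶ N) (x : X) :
    M.presheaf.stalk x →ₗ[X.presheaf.stalk x] N.presheaf.stalk x where
  toFun := stalkHom φ x
  map_add' := map_add _
  map_smul' r m := by
    obtain ⟨U, hx, s, rfl⟩ := M.presheaf.exists_germ_eq m
    obtain ⟨V, hxV, r, rfl⟩ := X.presheaf.exists_germ_eq r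
    let W := U ⊓ V
    have hxW : x ∈ W := ⟨hx, hxV⟩
    rw [← TopCat.Presheaf.germ_res_apply M.presheaf (homOfLE inf_le_left : W ⟶ U) x hxW s,
      ← TopCat.Presheaf.germ_res_apply X.presheaf (homOfLE inf_le_right : W ⟶ V) x hxW r,
      RingHom.id_apply, ← germ_smul, stalkHom_germ, stalkHom_germ, Scheme.Modules.Hom.app_smul,
      germ_smul]

theorem stalkLinearMap_apply (φ : M ⟶ N) (x : X) (m : M.presheaf.stalk x) :
    stalkLinearMap φ x m = stalkHom φ x m := rfl

theorem epi_iff_stalk_surjective (φ : M ⟶ N) :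
    Epi φ ↔ ∀ x : X, Function.Surjective (stalkHom φ x) := by
  rw [epi_iff_isLocallySurjective, TopCat.Presheaf.locally_surjective_iff_surjective_on_stalks]
  rfl

theorem section_ext {U : X.Opens} (s t : Γ(M, U))
    (h : ∀ (x : X) (hx : x ∈ U), M.presheaf.germ U x hx s = M.presheaf.germ U x hx t) : s = t :=
  TopCat.Presheaf.section_ext ⟨M.presheaf, M.isSheaf⟩ U s t h

theorem mono_iff_stalk_injective (φ : M ⟶ N) :
    Mono φ ↔ ∀ x : X, Function.Injective (stalkHom φ x) := by
  rw [mono_iff_app_injective]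
  exact (TopCat.Presheaf.app_injective_iff_stalkFunctor_map_injective
    (F := ⟨M.presheaf, M.isSheaf⟩) φ.mapPresheaf).symm

theorem isIso_iff_stalk_bijective (φ : M ⟶ N) :
    IsIso φ ↔ ∀ x : X, Function.Bijective (stalkHom φ x) := by
  rw [isIso_iff_mono_and_epi, mono_iff_stalk_injective, epi_iff_stalk_surjective, ← forall_and]
  rfl

theorem eq_of_stalkHom_eq (φ ψ : M ⟶ N) (h : ∀ x, stalkHom φ x = stalkHom ψ x) : φ = ψ := by
  refine Scheme.Modules.hom_ext _ _ fun U => ?_
  ext s
  refine section_ext _ _ fun x hx => ?_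
  rw [← stalkHom_germ, ← stalkHom_germ, h x]

end Groth.Agent.QCohLib
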