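import Mathlib.AlgebraicGeometry.Modules.Tilde
import Mathlib.Algebra.Category.ModuleCat.Kernels
import Groth.Agent.QCohLib.Basic

/-!
# Quasi-coherent modules on `Spec R`

* `tilde.functor R` is exact (`preservesFiniteLimits_tilde`, `mono_tilde_map`).
* kernels and cokernels of morphisms between quasi-coherent modules on `Spec R` are quasi-coherent.
* `epi_iff_Γ_surjective`, `mono_iff_Γ_injective`, `isIso_iff_Γ_bijective` for quasi-coherent modules.
* `isLocalizedModule_of_qcoh`: sections over basic opens are localisations.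
-/

universe u

open CategoryTheory CategoryTheory.Limits AlgebraicGeometry TopologicalSpace Opposite

namespace Groth.Agent.QCohLib

set_option backward.isDefEq.respectTransparency false

variable {R : CommRingCat.{u}}

theorem tilde_map_app_injective {M N : ModuleCat.{u} R} (f : M ⟶ N) (hf : Function.Injective f)
    (U : (Spec R).Opens) : Function.Injective ((tilde.map f).app U) := by
  intro s t h
  refine Subtype.ext (funext fun p => ?_)
  exact IsLocalizedModule.map_injective p.1.asIdeal.primeCompl
    (LocalizedModule.mkLinearMap _ M) (LocalizedModule.mkLinearMap _ N) f.hom hf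
    (congrArg (fun z => z.1 p) h)

theorem mono_tilde_map {M N : ModuleCat.{u} R} (f : M ⟶ N) [Mono f] : Mono (tilde.map f) :=
  (mono_iff_app_injective _).mpr
    (tilde_map_app_injective f ((ModuleCat.mono_iff_injective f).mp inferInstance))

instance : (tilde.functor R).PreservesMonomorphisms := ⟨fun f _ => mono_tilde_map f⟩

instance preservesHomology_tilde : (tilde.functor R).PreservesHomology :=
  Functor.preservesHomology_of_preservesMonos_and_cokernels _

instance preservesFiniteLimits_tilde : PreservesFiniteLimits (tilde.functor R) := by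
  apply Functor.preservesFiniteLimits_of_preservesHomology

/-- A variant of `isIso_fromTildeΓ_of_isQuasicoherent` usable as a term. -/
noncomputable def counitIso (M : (Spec R).Modules) [M.IsQuasicoherent] :
    (tilde.functor R).obj ((moduleSpecΓFunctor (R := R)).obj M) ≅ M :=
  @asIso _ _ _ _ M.fromTildeΓ (Scheme.Modules.isIso_fromTildeΓ_of_isQuasicoherent M)

/-- Global sections, as an `R`-module. -/
noncomputable abbrev ΓR (M : (Spec R).Modules) : ModuleCat.{u} R :=
  (moduleSpecΓFunctor (R := R)).obj M

/-- A morphism of quasi-coherent modules on `Spec R` is `~` of the map on global sections. -/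
noncomputable def arrowIso {M N : (Spec R).Modules} [M.IsQuasicoherent] [N.IsQuasicoherent]
    (φ : M ⟶ N) :
    Arrow.mk ((tilde.functor R).map ((moduleSpecΓFunctor (R := R)).map φ)) ≅ Arrow.mk φ :=
  Arrow.isoMk (counitIso M) (counitIso N)
    (tilde.adjunction (R := R).counit.naturality φ).symm

theorem isQuasicoherent_of_iso {X : Scheme.{u}} {M N : X.Modules} (e : M ≅ N)
    [M.IsQuasicoherent] : N.IsQuasicoherent :=
  (SheafOfModules.isQuasicoherent X.ringCatSheaf).prop_of_iso e inferInstance

theorem isQuasicoherent_tilde_obj (K : ModuleCat.{u} R) :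
    ((tilde.functor R).obj K).IsQuasicoherent :=
  inferInstanceAs (tilde K).IsQuasicoherent

theorem isQuasicoherent_kernel_Spec {M N : (Spec R).Modules} [M.IsQuasicoherent]
    [N.IsQuasicoherent] (φ : M ⟶ N) : (kernel φ).IsQuasicoherent :=
  haveI := isQuasicoherent_tilde_obj (kernel ((moduleSpecΓFunctor (R := R)).map φ))
  isQuasicoherent_of_iso
    (PreservesKernel.iso (tilde.functor R) ((moduleSpecΓFunctor (R := R)).map φ) ≪≫
      kernel.mapIso _ φ (counitIso M) (counitIso N)
        (tilde.adjunction (R := R).counit.naturality φ))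

theorem isQuasicoherent_cokernel_Spec {M N : (Spec R).Modules} [M.IsQuasicoherent]
    [N.IsQuasicoherent] (φ : M ⟶ N) : (cokernel φ).IsQuasicoherent :=
  haveI := isQuasicoherent_tilde_obj (cokernel ((moduleSpecΓFunctor (R := R)).map φ))
  isQuasicoherent_of_iso
    (PreservesCokernel.iso (tilde.functor R) ((moduleSpecΓFunctor (R := R)).map φ) ≪≫
      cokernel.mapIso _ φ (counitIso M) (counitIso N)
        (tilde.adjunction (R := R).counit.naturality φ))

theorem epi_iff_Γ_surjective {M N : (Spec R).Modules} [M.IsQuasicoherent] [N.IsQuasicoherent]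
    (φ : M ⟶ N) : Epi φ ↔ Function.Surjective (φ.app ⊤) := by
  have hA := (MorphismProperty.epimorphisms (Spec R).Modules).arrow_mk_iso_iff (arrowIso φ)
  simp only [MorphismProperty.epimorphisms.iff] at hA
  rw [← hA, (tilde.functor R).epi_map_iff_epi, ModuleCat.epi_iff_surjective]
  rfl

theorem mono_iff_Γ_injective {M N : (Spec R).Modules} [M.IsQuasicoherent] [N.IsQuasicoherent]
    (φ : M ⟶ N) : Mono φ ↔ Function.Injective (φ.app ⊤) := by
  have hA := (MorphismProperty.monomorphisms (Spec R).Modules).arrow_mk_iso_iff (arrowIso φ)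
  simp only [MorphismProperty.monomorphisms.iff] at hA
  rw [← hA, (tilde.functor R).mono_map_iff_mono, ModuleCat.mono_iff_injective]
  rfl

theorem isIso_iff_Γ_bijective {M N : (Spec R).Modules} [M.IsQuasicoherent] [N.IsQuasicoherent]
    (φ : M ⟶ N) : IsIso φ ↔ Function.Bijective (φ.app ⊤) := by
  rw [isIso_iff_mono_and_epi, mono_iff_Γ_injective, epi_iff_Γ_surjective]
  rfl

theorem isLocalizing_of_qcoh (M : (Spec R).Modules) [M.IsQuasicoherent] :
    IsLocalizing (modulesSpecToSheaf.obj M) :=
  (isIso_fromTildeΓ_iff_isLocalizing M).mp inferInstance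

/-- Restriction to an open, as an `R`-linear map. -/
noncomputable abbrev resR (M : (Spec R).Modules) {U V : (Spec R).Opens} (h : U ≤ V) :=
  ((modulesSpecToSheaf.obj M).obj.map (homOfLE h).op).hom

theorem exists_pow_smul_eq_zero_Spec (M : (Spec R).Modules) [M.IsQuasicoherent] (f : R)
    (D : (Spec R).Opens) (hD : D = PrimeSpectrum.basicOpen f) (x : Γ(M, ⊤))
    (hx : M.presheaf.map D.leTop.op x = 0) : ∃ n : ℕ, f ^ n • x = 0 := by
  subst hD
  have := isLocalizing_of_qcoh M f
  obtain ⟨⟨_, n, rfl⟩, hn⟩ := (IsLocalizedModule.eq_zero_iff (Submonoid.powers f)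
    ((modulesSpecToSheaf.obj M).obj.map
      (show (Spec R).Opens from PrimeSpectrum.basicOpen f).leTop.op).hom).mp hx
  exact ⟨n, hn⟩

theorem exists_res_eq_pow_smul_Spec (M : (Spec R).Modules) [M.IsQuasicoherent] (f : R)
    (D : (Spec R).Opens) (hD : D = PrimeSpectrum.basicOpen f) (s : Γ(M, D)) :
    ∃ (n : ℕ) (x : Γ(M, ⊤)), M.presheaf.map D.leTop.op x = f ^ n • s := by
  subst hD
  have := isLocalizing_of_qcoh M f
  obtain ⟨⟨x, _, n, rfl⟩, hx⟩ := IsLocalizedModule.surj (Submonoid.powers f)
    ((modulesSpecToSheaf.obj M).obj.map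
      (show (Spec R).Opens from PrimeSpectrum.basicOpen f).leTop.op).hom s
  exact ⟨n, x, hx.symm⟩

end Groth.Agent.QCohLib
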