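import Mathlib.AlgebraicGeometry.Modules.Tilde
import Groth.Agent.QCohLib.Basic
import Groth.Prelude.Def_CohB1

/-!
# Quasi-coherence, finite type and finite presentation are local

For a jointly surjective family of open immersions `j i : Z i ⟶ X`:
* `isQuasicoherent_of_cover`, `isFiniteType_of_cover`, `isFinitePresentation_of_cover`
  (generators / presentations of `M.restrict (j i)`),
* `exists_cover_generatingSections`, `exists_cover_finitePresentation`: the converse on opens.
* `restrictCompIso`: `(M|_U)|_V ≅ M|_V`.
-/

universe u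

open CategoryTheory CategoryTheory.Limits AlgebraicGeometry TopologicalSpace Opposite SheafOfModules

set_option backward.isDefEq.respectTransparency false

namespace Groth.Agent.QCohLib

variable {X : Scheme.{u}} {M : X.Modules}

/-- Restricting twice is restricting along the composite. -/
noncomputable def restrictCompIso {Y Z : Scheme.{u}} (M : X.Modules) (g : Z ⟶ Y) (f : Y ⟶ X)
    (k : Z ⟶ X) [IsOpenImmersion f] [IsOpenImmersion g] [IsOpenImmersion k] (h : g ≫ f = k) :
    (M.restrict f).restrict g ≅ M.restrict k :=
  ((Scheme.Modules.restrictFunctorComp g f).app M).symm ≪≫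
    (Scheme.Modules.restrictFunctorCongr h).app M

/-- Transport generators along restriction. -/
noncomputable def generatorsRestrict {Y : Scheme.{u}} (f : Y ⟶ X) [IsOpenImmersion f]
    (σ : M.GeneratingSections) : (M.restrict f).GeneratingSections :=
  have : PreservesColimitsOfSize.{u, u} (Scheme.Modules.restrictFunctor.{u} f) := inferInstance
  σ.map (Scheme.Modules.restrictFunctor.{u} f) (Scheme.Modules.restrictUnitIso _).symm

theorem generatorsRestrict_isFiniteType {Y : Scheme.{u}} (f : Y ⟶ X) [IsOpenImmersion f]
    (σ : M.GeneratingSections) [h : σ.IsFiniteType] : (generatorsRestrict f σ).IsFiniteType :=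
  ⟨h.finite⟩

theorem presentationRestrict_isFinite {Y : Scheme.{u}} (f : Y ⟶ X) [IsOpenImmersion f]
    (P : M.Presentation) [P.IsFinite] : (Scheme.Modules.presentationRestrict f P).IsFinite :=
  ⟨⟨inferInstanceAs (Finite P.generators.I)⟩, ⟨inferInstanceAs (Finite P.relations.I)⟩⟩

/-- The unit is preserved by `overEquiv`. -/
noncomputable def overUnitIso (U : X.Opens) :
    (Scheme.Modules.overEquiv U).functor.obj (unit (X.ringCatSheaf.over U)) ≅
      unit (U : Scheme).ringCatSheaf :=
  (Scheme.Modules.overFunctorEquiv U).app (unit X.ringCatSheaf) ≪≫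
    Scheme.Modules.restrictUnitIso U.ι

/-- The unit is preserved by the inverse of `overEquiv`. -/
noncomputable def overUnitIso' (U : X.Opens) :
    unit (X.ringCatSheaf.over U) ≅
      (Scheme.Modules.overEquiv U).inverse.obj (unit (U : Scheme).ringCatSheaf) :=
  (Scheme.Modules.overEquiv U).unitIso.app _ ≪≫
    (Scheme.Modules.overEquiv U).inverse.mapIso (overUnitIso U)

/-- `M.over U` in terms of `M.restrict U.ι`. -/
noncomputable def overIso (M : X.Modules) (U : X.Opens) :
    (Scheme.Modules.overEquiv U).inverse.obj (M.restrict U.ι) ≅ SheafOfModules.over M U :=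
  (Scheme.Modules.overEquiv U).inverse.mapIso ((Scheme.Modules.overFunctorEquiv U).app M).symm ≪≫
    ((Scheme.Modules.overEquiv U).unitIso.app _).symm

/-- Move a presentation of the restriction along an open immersion to the range. -/
noncomputable def presentationRange {Z : Scheme.{u}} (j : Z ⟶ X) [IsOpenImmersion j]
    (P : (M.restrict j).Presentation) : (M.restrict j.opensRange.ι).Presentation :=
  Presentation.ofIsIso.{u, u, u}
    (restrictCompIso M j.isoOpensRange.inv j j.opensRange.ι
      j.isoOpensRange_inv_comp).hom
    (Scheme.Modules.presentationRestrict j.isoOpensRange.inv P)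

theorem presentationRange_isFinite {Z : Scheme.{u}} (j : Z ⟶ X) [IsOpenImmersion j]
    (P : (M.restrict j).Presentation) [P.IsFinite] : (presentationRange j P).IsFinite :=
  have := presentationRestrict_isFinite j.isoOpensRange.inv P
  inferInstanceAs (Presentation.ofIsIso _ _).IsFinite

/-- Move generators of the restriction along an open immersion to the range. -/
noncomputable def generatorsRange {Z : Scheme.{u}} (j : Z ⟶ X) [IsOpenImmersion j]
    (σ : (M.restrict j).GeneratingSections) : (M.restrict j.opensRange.ι).GeneratingSections :=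
  (generatorsRestrict j.isoOpensRange.inv σ).ofEpi
    (restrictCompIso M j.isoOpensRange.inv j j.opensRange.ι j.isoOpensRange_inv_comp).hom

section Cover

variable {ι : Type u} {Z : ι → Scheme.{u}} (j : ∀ i, Z i ⟶ X) [∀ i, IsOpenImmersion (j i)]
  (hj : ∀ x : X, ∃ i, x ∈ (j i).opensRange)

include hj in
theorem coversTop_opensRange :
    (Opens.grothendieckTopology X).CoversTop fun i => (j i).opensRange := by
  rw [Opens.coversTop_iff, IsOpenCover, eq_top_iff]
  intro x _
  obtain ⟨i, hi⟩ := hj x
  exact Opens.mem_iSup.mpr ⟨i, hi⟩

/-- Quasi-coherent data from presentations on a cover. -/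
noncomputable def qcData (P : ∀ i, (M.restrict (j i)).Presentation) : M.QuasicoherentData where
  I := ι
  X i := (j i).opensRange
  coversTop := coversTop_opensRange j hj
  presentation i := Presentation.ofIsIso.{u, u, u} (overIso M (j i).opensRange).hom
    ((presentationRange (j i) (P i)).map (Scheme.Modules.overEquiv (j i).opensRange).inverse
      (overUnitIso' (j i).opensRange))

include hj in
theorem isFinitePresentation_of_cover (P : ∀ i, (M.restrict (j i)).Presentation)
    (hP : ∀ i, (P i).IsFinite) : M.IsFinitePresentation := by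
  refine { exists_quasicoherentData := ⟨qcData j hj P, ?_⟩ }
  refine { isFinite_presentation := fun i => ?_ }
  have := hP i
  have := presentationRange_isFinite (j i) (P i)
  exact ⟨⟨inferInstanceAs (Finite (presentationRange (j i) (P i)).generators.I)⟩,
    ⟨inferInstanceAs (Finite (presentationRange (j i) (P i)).relations.I)⟩⟩

include hj in
theorem isFiniteType_of_cover (σ : ∀ i, (M.restrict (j i)).GeneratingSections)
    (hσ : ∀ i, (σ i).IsFiniteType) : M.IsFiniteType := by
  let d : LocalGeneratorsData.{u} (R := X.ringCatSheaf) M :=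
    { I := ι
      X := fun i => (j i).opensRange
      coversTop := coversTop_opensRange j hj
      generators := fun i =>
        ((generatorsRange (j i) (σ i)).map (Scheme.Modules.overEquiv (j i).opensRange).inverse
          (overUnitIso' (j i).opensRange)).ofEpi (overIso M (j i).opensRange).hom }
  refine { exists_localGeneratorsData := ⟨d, ?_⟩ }
  refine { isFiniteType := fun i => ?_ }
  have := hσ i
  exact ⟨inferInstanceAs (Finite (σ i).I)⟩

include hj in
theorem isQuasicoherent_of_cover (h : ∀ i, (M.restrict (j i)).IsQuasicoherent) :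
    M.IsQuasicoherent := by
  have := h
  choose κ V P hV _ using fun i => Scheme.Modules.exists_isOpenCover_presentation (M.restrict (j i))
  refine (qcData (ι := Σ i, κ i) (fun a => (V a.1 a.2).ι ≫ j a.1) ?_
    (fun a => Presentation.ofIsIso.{u, u, u}
      (restrictCompIso M (V a.1 a.2).ι (j a.1) ((V a.1 a.2).ι ≫ j a.1) rfl).hom
      (P a.1 a.2))).isQuasicoherent
  intro x
  obtain ⟨i, z, rfl⟩ := hj x
  obtain ⟨k, hk⟩ := (hV i).exists_mem z
  exact ⟨⟨i, k⟩, ⟨⟨z, hk⟩, rfl⟩⟩

end Cover

theorem exists_cover_generatingSections (hM : M.IsFiniteType) :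
    ∃ (ι : Type u) (U : ι → X.Opens) (σ : ∀ i, (M.restrict (U i).ι).GeneratingSections),
      (∀ x : X, ∃ i, x ∈ U i) ∧ ∀ i, (σ i).IsFiniteType := by
  obtain ⟨d, hd⟩ := IsFiniteType.exists_localGeneratorsData M
  refine ⟨d.I, d.X, fun i => ((d.generators i).map (Scheme.Modules.overEquiv (d.X i)).functor
    (overUnitIso (d.X i)).symm).ofEpi ((Scheme.Modules.overFunctorEquiv (d.X i)).app M).hom,
    fun x => ?_, fun i => ?_⟩
  · have h := (Opens.coversTop_iff (U := d.X)).mp d.coversTop
    exact Opens.mem_iSup.mp (h.ge (Opens.mem_top x))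
  · have := hd.isFiniteType i
    exact ⟨inferInstanceAs (Finite (d.generators i).I)⟩

theorem exists_cover_finitePresentation (hM : M.IsFinitePresentation) :
    ∃ (ι : Type u) (U : ι → X.Opens) (P : ∀ i, (M.restrict (U i).ι).Presentation),
      (∀ x : X, ∃ i, x ∈ U i) ∧ ∀ i, (P i).IsFinite := by
  obtain ⟨d, hd⟩ := IsFinitePresentation.exists_quasicoherentData M
  refine ⟨d.I, d.X, fun i => Presentation.ofIsIso.{u, u, u}
    ((Scheme.Modules.overFunctorEquiv (d.X i)).app M).hom
    ((d.presentation i).map (Scheme.Modules.overEquiv (d.X i)).functor (overUnitIso (d.X i)).symm),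
    fun x => ?_, fun i => ?_⟩
  · have h := (Opens.coversTop_iff (U := d.X)).mp d.coversTop
    exact Opens.mem_iSup.mp (h.ge (Opens.mem_top x))
  · have := hd.isFinite_presentation i
    exact ⟨⟨inferInstanceAs (Finite (d.presentation i).generators.I)⟩,
      ⟨inferInstanceAs (Finite (d.presentation i).relations.I)⟩⟩

end Groth.Agent.QCohLib
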