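import Mathlib.AlgebraicGeometry.AffineScheme
import Mathlib.Algebra.Homology.ShortComplex.Ab
import Mathlib.Algebra.Homology.ShortComplex.ExactFunctor
import Groth.Agent.QCohLib.Affine

/-!
# Sections of quasi-coherent modules over affine opens of a scheme

For `M` quasi-coherent, `U` affine open and `f ∈ Γ(X, U)`:
* `exists_pow_smul_eq_zero`, `exists_res_eq_pow_smul`.
* `sections_exact_of_shortExact`: left exactness of sections.
* `app_surjective_of_shortExact`: if `0 → K → M → N → 0` is exact with `K` quasi-coherent then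
  `Γ(M, U) → Γ(N, U)` is surjective for `U` affine.
-/

universe u

open CategoryTheory CategoryTheory.Limits AlgebraicGeometry TopologicalSpace Opposite

set_option backward.isDefEq.respectTransparency false

namespace Groth.Agent.QCohLib

variable {X : Scheme.{u}} (M : X.Modules) {U : X.Opens} (hU : IsAffineOpen U)

/-- The restriction of `M` to `Spec Γ(X, U)`. -/
noncomputable abbrev onSpec : (Spec Γ(X, U)).Modules := M.restrict hU.fromSpec

theorem fromSpec_image_le (V : (Spec Γ(X, U)).Opens) : hU.fromSpec ''ᵁ V ≤ U := by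
  rintro x ⟨y, -, rfl⟩
  exact hU.range_fromSpec.le ⟨y, rfl⟩

theorem fromSpec_image_top : hU.fromSpec ''ᵁ ⊤ = U := by
  rw [Scheme.Hom.image_top_eq_opensRange, hU.opensRange_fromSpec]

theorem fromSpec_appLE (V : (Spec Γ(X, U)).Opens) (e : V ≤ hU.fromSpec ⁻¹ᵁ U) :
    hU.fromSpec.appLE U V e = (Scheme.ΓSpecIso Γ(X, U)).inv ≫
      (Spec Γ(X, U)).presheaf.map V.leTop.op := by
  rw [Scheme.Hom.appLE, hU.fromSpec_app_self, Category.assoc, ← Functor.map_comp]
  rfl

theorem restrictAppIso_smul (V : (Spec Γ(X, U)).Opens) (r : Γ(X, U)) (x : Γ(onSpec M hU, V)) :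
    (M.restrictAppIso hU.fromSpec V).hom (r • x) =
      X.presheaf.map (homOfLE (fromSpec_image_le hU V)).op r •
        (M.restrictAppIso hU.fromSpec V).hom x := by
  have he : V ≤ hU.fromSpec ⁻¹ᵁ U := by rw [hU.fromSpec_preimage_self]; exact le_top
  rw [Scheme.Modules.smul_Spec_def, Scheme.Modules.smul_restrictAppIso_hom_apply]
  congr 1
  have h := Scheme.Hom.appLE_appIso_inv hU.fromSpec he
  rw [fromSpec_appLE hU V he] at h
  exact ConcreteCategory.congr_hom h r

variable {M}

/-- If a section over an affine open vanishes on `D(f)`, it is killed by a power of `f`. -/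
theorem exists_pow_smul_eq_zero [M.IsQuasicoherent] (hU : IsAffineOpen U) (f : Γ(X, U))
    (D : X.Opens) (hDU : D ≤ U) (hD : D = X.basicOpen f) (x : Γ(M, U))
    (hx : M.presheaf.map (homOfLE hDU).op x = 0) : ∃ n : ℕ, f ^ n • x = 0 := by
  have hTU : hU.fromSpec ''ᵁ ⊤ ≤ U := fromSpec_image_le hU ⊤
  have hUT : U ≤ hU.fromSpec ''ᵁ ⊤ := (fromSpec_image_top hU).ge
  let D' : (Spec Γ(X, U)).Opens := PrimeSpectrum.basicOpen f
  have hD' : hU.fromSpec ''ᵁ D' = D := by rw [hD]; exact hU.fromSpec_image_basicOpen f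
  let y : Γ(onSpec M hU, ⊤) := M.presheaf.map (homOfLE hTU).op x
  have hy : (onSpec M hU).presheaf.map D'.leTop.op y = 0 := by
    change M.presheaf.map (homOfLE _).op (M.presheaf.map (homOfLE hTU).op x) = 0
    rw [map_map, ← map_map M hD'.le hDU, hx, map_zero]
  obtain ⟨n, hn⟩ := exists_pow_smul_eq_zero_Spec (onSpec M hU) f D' rfl y hy
  refine ⟨n, ?_⟩
  have h2 := congrArg (M.restrictAppIso hU.fromSpec ⊤).hom hn
  rw [restrictAppIso_smul, map_zero] at h2
  change X.presheaf.map _ (f ^ n) • M.presheaf.map _ x = 0 at h2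
  rw [← Scheme.Modules.map_smul] at h2
  have h3 := congrArg (M.presheaf.map (homOfLE hUT).op) h2
  rwa [map_map, map_self, map_zero] at h3

/-- A section over `D(f)` extends to the affine open after multiplying by a power of `f`. -/
theorem exists_res_eq_pow_smul [M.IsQuasicoherent] (hU : IsAffineOpen U) (f : Γ(X, U))
    (D : X.Opens) (hDU : D ≤ U) (hD : D = X.basicOpen f) (s : Γ(M, D)) :
    ∃ (n : ℕ) (x : Γ(M, U)),
      M.presheaf.map (homOfLE hDU).op x = (X.presheaf.map (homOfLE hDU).op f) ^ n • s := by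
  have hTU : hU.fromSpec ''ᵁ ⊤ ≤ U := fromSpec_image_le hU ⊤
  have hUT : U ≤ hU.fromSpec ''ᵁ ⊤ := (fromSpec_image_top hU).ge
  let D' : (Spec Γ(X, U)).Opens := PrimeSpectrum.basicOpen f
  have hD' : hU.fromSpec ''ᵁ D' = D := by rw [hD]; exact hU.fromSpec_image_basicOpen f
  let y : Γ(onSpec M hU, D') := M.presheaf.map (homOfLE hD'.le).op s
  obtain ⟨n, x, hx⟩ := exists_res_eq_pow_smul_Spec (onSpec M hU) f D' rfl y
  refine ⟨n, M.presheaf.map (homOfLE hUT).op x, ?_⟩
  have h2 := congrArg (M.restrictAppIso hU.fromSpec D').hom hx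
  rw [restrictAppIso_smul] at h2
  change M.presheaf.map (homOfLE (hU.fromSpec.image_mono le_top)).op x =
    X.presheaf.map (homOfLE (fromSpec_image_le hU D')).op (f ^ n) •
      M.presheaf.map (homOfLE hD'.le).op s at h2
  have h3 := congrArg (M.presheaf.map (homOfLE hD'.ge).op) h2
  rw [map_map, Scheme.Modules.map_smul, map_map, map_self, ring_map_map, map_pow] at h3
  rw [map_map]
  exact h3

section Exact

instance (V : X.Opensᵒᵖ) :
    ((Scheme.Modules.toPresheaf X) ⋙ (evaluation _ AddCommGrpCat.{u}).obj V).PreservesZeroMorphisms :=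
  ⟨fun _ _ => rfl⟩

/-- Sections are left exact. -/
theorem sections_exact_of_shortExact {S : ShortComplex X.Modules} (hS : S.ShortExact) (V : X.Opens) :
    Function.Injective (S.f.app V) ∧
      ∀ s : Γ(S.X₂, V), S.g.app V s = 0 → ∃ c : Γ(S.X₁, V), S.f.app V c = s := by
  have hmono := hS.mono_f
  refine ⟨(mono_iff_app_injective S.f).mp hmono V, ?_⟩
  have hlim : PreservesFiniteLimits
      (Scheme.Modules.toPresheaf X ⋙ (evaluation _ AddCommGrpCat.{u}).obj (op V)) :=
    have : PreservesFiniteLimits (Scheme.Modules.toPresheaf X) :=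
      PreservesLimitsOfSize.preservesFiniteLimits _
    have : PreservesFiniteLimits ((evaluation X.Opensᵒᵖ AddCommGrpCat.{u}).obj (op V)) :=
      ⟨fun J _ _ => inferInstance⟩
    comp_preservesFiniteLimits _ _
  have h := hS.exact.map_of_mono_of_preservesKernel
    (Scheme.Modules.toPresheaf X ⋙ (evaluation _ AddCommGrpCat.{u}).obj (op V)) hmono inferInstance
  rw [ShortComplex.ab_exact_iff] at h
  exact h

variable {K N : X.Modules}

/-- If the kernel is quasi-coherent, locally liftable sections over an affine open lift. -/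
theorem app_surjective_of_exact [K.IsQuasicoherent] (ι : K ⟶ M) (π : M ⟶ N) [Epi π] (hc : ι ≫ π = 0)
    (hinj : ∀ V, Function.Injective (ι.app V))
    (hex : ∀ (V : X.Opens) (s : Γ(M, V)), π.app V s = 0 → ∃ c, ι.app V c = s)
    (hU : IsAffineOpen U) : Function.Surjective (π.app U) := by
  classical
  intro t
  have hπι : ∀ (V : X.Opens) (c : Γ(K, V)), π.app V (ι.app V c) = 0 := by
    intro V c
    rw [← CategoryTheory.comp_apply, ← Scheme.Modules.Hom.comp_app, hc]
    rfl
  -- the ideal of those `r` such that `r • t` lifts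
  let I : Ideal Γ(X, U) :=
    { carrier := {r | ∃ s, π.app U s = r • t}
      add_mem' := fun {a b} ⟨x, hx⟩ ⟨y, hy⟩ => ⟨x + y, by rw [map_add, hx, hy, add_smul]⟩
      zero_mem' := ⟨0, by rw [map_zero, zero_smul]⟩
      smul_mem' := fun r x ⟨y, hy⟩ => ⟨r • y, by
        rw [Scheme.Modules.Hom.app_smul, hy, smul_eq_mul, mul_smul]⟩ }
  suffices hI : I = ⊤ by
    obtain ⟨s, hs⟩ := (show (1 : Γ(X, U)) ∈ I from hI ▸ Submodule.mem_top)
    exact ⟨s, by rw [hs, one_smul]⟩
  -- local lifts on basic opens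
  have hloc : ∀ x : U, ∃ (g : Γ(X, U)), ↑x ∈ X.basicOpen g ∧
      ∃ s : Γ(M, X.basicOpen g), π.app _ s = N.presheaf.map (homOfLE (X.basicOpen_le g)).op t := by
    intro x
    obtain ⟨V, hVU, ⟨s, hs⟩, hxV⟩ :=
      (epi_iff_locally_surjective π).mp inferInstance U t x x.2
    obtain ⟨g, hgV, hxg⟩ := hU.exists_basicOpen_le ⟨x, hxV⟩ x.2
    refine ⟨g, hxg, M.presheaf.map (homOfLE hgV).op s, ?_⟩
    rw [app_map, hs]
    exact map_map N hgV hVU t
  choose g hxg s hs using hloc
  have hcov : Ideal.span (Set.range g) = ⊤ := by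
    rw [← hU.iSup_basicOpen_eq_self_iff]
    refine le_antisymm (iSup_le fun f => X.basicOpen_le _) fun x hx => ?_
    exact Opens.mem_iSup.mpr ⟨⟨g ⟨x, hx⟩, _, rfl⟩, hxg ⟨x, hx⟩⟩
  obtain ⟨T, hT, hT'⟩ := (Ideal.span_eq_top_iff_finite _).mp hcov
  suffices hrad : ∀ x : U, ∃ N : ℕ, g x ^ N ∈ I by
    rw [← Ideal.radical_eq_top, eq_top_iff, ← hcov, Ideal.span_le]
    rintro _ ⟨x, rfl⟩
    exact hrad x
  intro x
  choose p hp using fun a : (T : Set Γ(X, U)) => hT a.2
  -- the opens
  let D : X.Opens := X.basicOpen (g x)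
  let W : ↥(T : Set Γ(X, U)) → X.Opens := fun a => X.basicOpen (g (p a))
  have hWU : ∀ a, W a ≤ U := fun a => X.basicOpen_le _
  have hWaff : ∀ a, IsAffineOpen (W a) := fun a => hU.basicOpen _
  have hDW : ∀ a, W a ⊓ D = X.basicOpen (X.presheaf.map (homOfLE (hWU a)).op (g x)) :=
    fun a => (X.basicOpen_res _ _).symm
  have hgW : ∀ a, X.presheaf.map (homOfLE (inf_le_left : W a ⊓ D ≤ W a)).op
      (X.presheaf.map (homOfLE (hWU a)).op (g x)) =
      X.presheaf.map (homOfLE (inf_le_left.trans (hWU a) : W a ⊓ D ≤ U)).op (g x) := fun a => ring_map_map _ _ _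
  -- first correction: agree with `g^n • s x` on `W a ⊓ D`
  have step : ∀ a, ∃ (n : ℕ) (d : Γ(K, W a)),
      ∀ m ≥ n, ι.app _ (K.presheaf.map (homOfLE (inf_le_left : W a ⊓ D ≤ W a)).op
          (X.presheaf.map (homOfLE (hWU a)).op (g x) ^ (m - n) • d)) =
        X.presheaf.map (homOfLE (inf_le_left.trans (hWU a) : W a ⊓ D ≤ U)).op (g x) ^ m •
          (M.presheaf.map (homOfLE (inf_le_right : W a ⊓ D ≤ D)).op (s x) -
            M.presheaf.map (homOfLE (inf_le_left : W a ⊓ D ≤ W a)).op (s (p a))) := by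
    intro a
    obtain ⟨c, hcd⟩ := hex (W a ⊓ D)
      (M.presheaf.map (homOfLE (inf_le_right : W a ⊓ D ≤ D)).op (s x) -
        M.presheaf.map (homOfLE (inf_le_left : W a ⊓ D ≤ W a)).op (s (p a))) (by
        rw [map_sub, app_map, app_map, hs, hs, map_map, map_map, sub_eq_zero])
    obtain ⟨n, d, hd⟩ := exists_res_eq_pow_smul (hWaff a) _ (W a ⊓ D) inf_le_left (hDW a) c
    refine ⟨n, d, fun m hm => ?_⟩
    rw [Scheme.Modules.map_smul, hd, Scheme.Modules.Hom.app_smul, Scheme.Modules.Hom.app_smul,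
      hcd, map_pow, hgW, ← mul_smul, ← pow_add, Nat.sub_add_cancel hm]
  choose n d hd using step
  let n₀ : ℕ := Finset.univ.sup n
  let u : ∀ a, Γ(M, W a) := fun a =>
    X.presheaf.map (homOfLE (hWU a)).op (g x) ^ n₀ • s (p a) +
      ι.app _ (X.presheaf.map (homOfLE (hWU a)).op (g x) ^ (n₀ - n a) • d a)
  have hu1 : ∀ a, π.app _ (u a) = N.presheaf.map (homOfLE (hWU a)).op (g x ^ n₀ • t) := by
    intro a
    rw [map_add, hπι, add_zero, Scheme.Modules.Hom.app_smul, hs, Scheme.Modules.map_smul, map_pow]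
  have hu2 : ∀ a, M.presheaf.map (homOfLE (inf_le_left : W a ⊓ D ≤ W a)).op (u a) =
      X.presheaf.map (homOfLE (inf_le_left.trans (hWU a) : W a ⊓ D ≤ U)).op (g x) ^ n₀ •
        M.presheaf.map (homOfLE (inf_le_right : W a ⊓ D ≤ D)).op (s x) := by
    intro a
    rw [map_add, ← app_map, hd a n₀ (Finset.le_sup (Finset.mem_univ a)),
      Scheme.Modules.map_smul, map_pow, hgW, smul_sub]
    abel
  -- second correction: agreement on overlaps
  have step2 : ∀ a b, ∃ m : ℕ, ∀ k ≥ m,
      X.presheaf.map (homOfLE (inf_le_left.trans (hWU a) : W a ⊓ W b ≤ U)).op (g x) ^ k •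
        (M.presheaf.map (homOfLE (inf_le_left : W a ⊓ W b ≤ W a)).op (u a) -
          M.presheaf.map (homOfLE (inf_le_right : W a ⊓ W b ≤ W b)).op (u b)) = 0 := by
    intro a b
    obtain ⟨e, he⟩ := hex (W a ⊓ W b)
      (M.presheaf.map (homOfLE (inf_le_left : W a ⊓ W b ≤ W a)).op (u a) -
        M.presheaf.map (homOfLE (inf_le_right : W a ⊓ W b ≤ W b)).op (u b)) (by
        rw [map_sub, app_map, app_map, hu1, hu1, map_map, map_map, sub_eq_zero])
    have haff : IsAffineOpen (W a ⊓ W b) := by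
      change IsAffineOpen (X.basicOpen _ ⊓ X.basicOpen _)
      rw [← X.basicOpen_mul]
      exact hU.basicOpen _
    have hres : K.presheaf.map (homOfLE (inf_le_left : W a ⊓ W b ⊓ D ≤ W a ⊓ W b)).op e = 0 := by
      apply hinj
      rw [app_map, he, map_sub, map_map, map_map, map_zero, sub_eq_zero]
      have ha : W a ⊓ W b ⊓ D ≤ W a ⊓ D := inf_le_inf_right D inf_le_left
      have hb : W a ⊓ W b ⊓ D ≤ W b ⊓ D := inf_le_inf_right D inf_le_right
      rw [← map_map M ha inf_le_left (u a), ← map_map M hb inf_le_left (u b), hu2, hu2,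
        Scheme.Modules.map_smul, Scheme.Modules.map_smul, map_map, map_map, map_pow, map_pow,
        ring_map_map, ring_map_map]
    obtain ⟨m, hm⟩ := exists_pow_smul_eq_zero haff _ (W a ⊓ W b ⊓ D) inf_le_left
      (X.basicOpen_res (g x) (homOfLE (inf_le_left.trans (hWU a) : W a ⊓ W b ≤ U)).op).symm e hres
    refine ⟨m, fun k hk => ?_⟩
    rw [← he, ← Scheme.Modules.Hom.app_smul, ← Nat.sub_add_cancel hk, pow_add, mul_smul, hm,
      smul_zero, map_zero]
  choose m hm using step2
  let m₀ : ℕ := Finset.univ.sup fun ab : ↥(T : Set Γ(X, U)) × ↥(T : Set Γ(X, U)) => m ab.1 ab.2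
  let v : ∀ a, Γ(M, W a) := fun a => X.presheaf.map (homOfLE (hWU a)).op (g x) ^ m₀ • u a
  have hsup : U ≤ ⨆ a, W a := by
    refine (hU.self_le_iSup_basicOpen_iff.mpr hT').trans (iSup_le fun a => ?_)
    refine le_of_eq_of_le ?_ (le_iSup W a)
    change _ = X.basicOpen (g (p a))
    rw [hp]
  obtain ⟨σ, hσ, -⟩ := TopCat.Sheaf.existsUnique_gluing' ⟨M.presheaf, M.isSheaf⟩ W U
    (fun a => homOfLE (hWU a)) hsup v (fun a b => by
      change M.presheaf.map (homOfLE (inf_le_left : W a ⊓ W b ≤ W a)).op _ =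
        M.presheaf.map (homOfLE (inf_le_right : W a ⊓ W b ≤ W b)).op _
      rw [Scheme.Modules.map_smul, Scheme.Modules.map_smul, map_pow, map_pow, ring_map_map,
        ring_map_map, ← sub_eq_zero, ← smul_sub]
      exact hm a b m₀ (Finset.le_sup (f := fun ab : ↥(T : Set Γ(X, U)) × ↥(T : Set Γ(X, U)) =>
        m ab.1 ab.2) (Finset.mem_univ (a, b))))
  refine ⟨m₀ + n₀, σ, ?_⟩
  refine TopCat.Sheaf.eq_of_locally_eq' ⟨N.presheaf, N.isSheaf⟩ W U (fun a => homOfLE (hWU a)) hsup
    _ _ fun a => ?_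
  change N.presheaf.map (homOfLE (hWU a)).op (π.app U σ) =
    N.presheaf.map (homOfLE (hWU a)).op (g x ^ (m₀ + n₀) • t)
  rw [← app_map, show M.presheaf.map (homOfLE (hWU a)).op σ = v a from hσ a,
    Scheme.Modules.Hom.app_smul, hu1, pow_add, mul_smul,
    Scheme.Modules.map_smul N (homOfLE (hWU a)) (g x ^ m₀), map_pow]

/-- In a short exact sequence with quasi-coherent first term, sections over affines are exact. -/
theorem app_surjective_of_shortExact {S : ShortComplex X.Modules} (hS : S.ShortExact)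
    [S.X₁.IsQuasicoherent] (hU : IsAffineOpen U) : Function.Surjective (S.g.app U) := by
  have := hS.epi_g
  exact app_surjective_of_exact S.f S.g S.zero (fun V => (sections_exact_of_shortExact hS V).1)
    (fun V => (sections_exact_of_shortExact hS V).2) hU

end Exact

end Groth.Agent.QCohLib
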