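import Mathlib.Algebra.Homology.ShortComplex.ShortExact
import Groth.Agent.QCohLib.Sections
import Groth.Agent.QCohLib.Local

/-!
# Closure properties of quasi-coherent modules

* restriction along open immersions is exact;
* `isQuasicoherent_iff_affine`, kernels, cokernels, images, extensions of quasi-coherent modules;
* on affine opens a map of quasi-coherent modules is epi/mono iff surjective/injective on sections
  (`app_surjective_of_epi`, `epi_of_affine_surjective`).
-/

universe u

open CategoryTheory CategoryTheory.Limits AlgebraicGeometry TopologicalSpace Opposite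

set_option backward.isDefEq.respectTransparency false

namespace Groth.Agent.QCohLib

variable {X : Scheme.{u}} {M N : X.Modules}

theorem restrict_map_app {Y : Scheme.{u}} (f : Y ⟶ X) [IsOpenImmersion f] (φ : M ⟶ N)
    (V : Y.Opens) : ((Scheme.Modules.restrictFunctor f).map φ).app V = φ.app (f ''ᵁ V) := rfl

instance {Y : Scheme.{u}} (f : Y ⟶ X) [IsOpenImmersion f] :
    (Scheme.Modules.restrictFunctor f).Additive where
  map_add := by intros; rfl

instance {Y : Scheme.{u}} (f : Y ⟶ X) [IsOpenImmersion f] :
    (Scheme.Modules.restrictFunctor f).PreservesMonomorphisms where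
  preserves φ _ := (mono_iff_app_injective _).mpr
    fun V => (mono_iff_app_injective φ).mp inferInstance (f ''ᵁ V)

instance {Y : Scheme.{u}} (f : Y ⟶ X) [IsOpenImmersion f] :
    (Scheme.Modules.restrictFunctor f).PreservesHomology :=
  Functor.preservesHomology_of_preservesMonos_and_cokernels _

instance {Y : Scheme.{u}} (f : Y ⟶ X) [IsOpenImmersion f] :
    PreservesFiniteLimits (Scheme.Modules.restrictFunctor f) := by
  apply Functor.preservesFiniteLimits_of_preservesHomology

theorem exists_affine_mem (x : X) : ∃ U : X.affineOpens, x ∈ U.1 := by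
  obtain ⟨U, hU, hx, -⟩ := exists_isAffineOpen_mem_and_subset (U := ⊤) (Opens.mem_top x)
  exact ⟨⟨U, hU⟩, hx⟩

theorem isQuasicoherent_iff_affine :
    M.IsQuasicoherent ↔ ∀ U : X.affineOpens, (onSpec M U.2).IsQuasicoherent := by
  refine ⟨fun h U => inferInstance, fun h => ?_⟩
  refine isQuasicoherent_of_cover (ι := X.affineOpens) (fun U => U.2.fromSpec) (fun x => ?_) h
  obtain ⟨U, hU⟩ := exists_affine_mem x
  exact ⟨U, by rw [U.2.opensRange_fromSpec]; exact hU⟩

theorem isQuasicoherent_kernel [M.IsQuasicoherent] [N.IsQuasicoherent] (φ : M ⟶ N) :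
    (kernel φ).IsQuasicoherent := by
  rw [isQuasicoherent_iff_affine]
  intro U
  have := isQuasicoherent_kernel_Spec ((Scheme.Modules.restrictFunctor U.2.fromSpec).map φ)
  exact isQuasicoherent_of_iso (PreservesKernel.iso (Scheme.Modules.restrictFunctor U.2.fromSpec) φ).symm

theorem isQuasicoherent_cokernel [M.IsQuasicoherent] [N.IsQuasicoherent] (φ : M ⟶ N) :
    (cokernel φ).IsQuasicoherent := by
  rw [isQuasicoherent_iff_affine]
  intro U
  have := isQuasicoherent_cokernel_Spec ((Scheme.Modules.restrictFunctor U.2.fromSpec).map φ)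
  exact isQuasicoherent_of_iso
    (PreservesCokernel.iso (Scheme.Modules.restrictFunctor U.2.fromSpec) φ).symm

theorem isQuasicoherent_image [M.IsQuasicoherent] [N.IsQuasicoherent] (φ : M ⟶ N) :
    (Abelian.image φ).IsQuasicoherent :=
  have := isQuasicoherent_cokernel φ
  isQuasicoherent_kernel (cokernel.π φ)

theorem app_surjective_of_epi [M.IsQuasicoherent] [N.IsQuasicoherent] (φ : M ⟶ N) [Epi φ]
    {U : X.Opens} (hU : IsAffineOpen U) : Function.Surjective (φ.app U) := by
  have := isQuasicoherent_kernel φ
  have hS : (ShortComplex.mk (kernel.ι φ) φ (kernel.condition φ)).ShortExact :=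
    { exact := ShortComplex.exact_of_f_is_kernel _ (kernelIsKernel φ) }
  exact app_surjective_of_shortExact hS hU

theorem epi_of_affine_surjective (φ : M ⟶ N)
    (h : ∀ U : X.affineOpens, Function.Surjective (φ.app U.1)) : Epi φ :=
  epi_of_app_surjective φ X.isBasis_affineOpens fun U hU => h ⟨U, hU⟩

/-- An extension of quasi-coherent modules on `Spec R` is quasi-coherent. -/
theorem isQuasicoherent_of_extension_Spec {R : CommRingCat.{u}} (S : ShortComplex (Spec R).Modules)
    (hS : S.ShortExact) [S.X₁.IsQuasicoherent] [S.X₃.IsQuasicoherent] :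
    S.X₂.IsQuasicoherent := by
  have : (moduleSpecΓFunctor (R := R)).IsRightAdjoint := tilde.adjunction.isRightAdjoint
  have : (moduleSpecΓFunctor (R := R)).PreservesZeroMorphisms := ⟨fun _ _ => rfl⟩
  have : PreservesLimitsOfSize.{0, 0} (moduleSpecΓFunctor (R := R)) :=
    tilde.adjunction.rightAdjoint_preservesLimits
  have : PreservesFiniteLimits (moduleSpecΓFunctor (R := R)) :=
    PreservesLimitsOfSize.preservesFiniteLimits _
  have hmono := hS.mono_f
  have hm : Mono ((moduleSpecΓFunctor (R := R)).map S.f) := inferInstance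
  have he : Epi ((moduleSpecΓFunctor (R := R)).map S.g) := by
    rw [ModuleCat.epi_iff_surjective]
    exact app_surjective_of_shortExact hS (isAffineOpen_top (Spec R))
  have hΓ : (S.map (moduleSpecΓFunctor (R := R))).ShortExact :=
    { exact := hS.exact.map_of_mono_of_preservesKernel _ hmono inferInstance
      mono_f := hm
      epi_g := he }
  have hT : ((S.map (moduleSpecΓFunctor (R := R))).map (tilde.functor R)).ShortExact :=
    hΓ.map_of_exact (tilde.functor R)
  let c : (S.map (moduleSpecΓFunctor (R := R))).map (tilde.functor R) ⟶ S :=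
    { τ₁ := S.X₁.fromTildeΓ
      τ₂ := S.X₂.fromTildeΓ
      τ₃ := S.X₃.fromTildeΓ
      comm₁₂ := (tilde.adjunction (R := R).counit.naturality S.f).symm
      comm₂₃ := (tilde.adjunction (R := R).counit.naturality S.g).symm }
  have h1 : IsIso c.τ₁ := Scheme.Modules.isIso_fromTildeΓ_of_isQuasicoherent S.X₁
  have h3 : IsIso c.τ₃ := Scheme.Modules.isIso_fromTildeΓ_of_isQuasicoherent S.X₃
  have h2 := ShortComplex.isIso₂_of_shortExact_of_isIso₁₃ c hT hS
  exact (isQuasicoherent_iff_isIso_fromTildeΓ S.X₂).mpr h2

theorem isQuasicoherent_of_extension (S : ShortComplex X.Modules) (hS : S.ShortExact)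
    [S.X₁.IsQuasicoherent] [S.X₃.IsQuasicoherent] : S.X₂.IsQuasicoherent := by
  rw [isQuasicoherent_iff_affine]
  intro U
  let F := Scheme.Modules.restrictFunctor U.2.fromSpec
  have h1 : (S.map F).X₁.IsQuasicoherent := inferInstanceAs (F.obj S.X₁).IsQuasicoherent
  have h3 : (S.map F).X₃.IsQuasicoherent := inferInstanceAs (F.obj S.X₃).IsQuasicoherent
  exact isQuasicoherent_of_extension_Spec (S.map F) (hS.map_of_exact F)

end Groth.Agent.QCohLib
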