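import Mathlib.RingTheory.Localization.Finiteness
import Mathlib.RingTheory.LocalProperties.FinitePresentation
import Groth.Agent.QCohLib.Closure

/-!
# Finite type / finitely presented quasi-coherent modules and finite modules of sections

* `isFiniteType_iff_affine`: qcoh `M` is of finite type iff `Γ(M, U)` is finite over `Γ(X, U)` for
  all affine `U`; `isFinitePresentation_iff_affine` likewise.
* `isLocalizedModule_res`: `Γ(M, U) → Γ(M, D(f))` is a localisation.
-/

universe u

open CategoryTheory CategoryTheory.Limits AlgebraicGeometry TopologicalSpace Opposite SheafOfModules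

set_option backward.isDefEq.respectTransparency false

namespace Groth.Agent.QCohLib

section Spec

variable {R : CommRingCat.{u}} {M : (Spec R).Modules}

/-- Global sections of the free sheaf. -/
noncomputable def ΓFreeIso (I : Type u) :
    ModuleCat.of R (I →₀ R) ≅ ΓR (free (R := (Spec R).ringCatSheaf) I) :=
  tilde.isoTop (ModuleCat.of R (I →₀ R)) ≪≫ (moduleSpecΓFunctor (R := R)).mapIso (tildeFinsupp I)

theorem finite_ΓR_of_generators [M.IsQuasicoherent] (σ : M.GeneratingSections) [σ.IsFiniteType] :
    Module.Finite R (ΓR M) := by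
  have hfree : (free (R := (Spec R).ringCatSheaf) σ.I).IsQuasicoherent := by
    have := isQuasicoherent_tilde_obj (ModuleCat.of R (σ.I →₀ R))
    exact isQuasicoherent_of_iso (tildeFinsupp σ.I)
  have hs := (epi_iff_Γ_surjective σ.π).mp σ.epi
  exact Module.Finite.of_surjective
    ((ΓFreeIso σ.I).hom ≫ (moduleSpecΓFunctor (R := R)).map σ.π).hom
    (hs.comp (ΓFreeIso σ.I).toLinearEquiv.surjective)

theorem exists_generators_of_finite [M.IsQuasicoherent] (h : Module.Finite R (ΓR M)) :
    ∃ σ : M.GeneratingSections, σ.IsFiniteType := by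
  obtain ⟨s, hs⟩ := h.fg_top
  let P := presentationTilde (ΓR M) (s : Set (ΓR M)) hs _ (Submodule.span_eq _)
  have : Finite P.generators.I := inferInstanceAs (Finite (s : Set (ΓR M)))
  exact ⟨P.generators.ofEpi (counitIso M).hom, ⟨inferInstanceAs (Finite P.generators.I)⟩⟩

theorem exists_presentation_of_finitePresentation [M.IsQuasicoherent]
    (h : Module.FinitePresentation R (ΓR M)) : ∃ P : M.Presentation, P.IsFinite := by
  obtain ⟨s, hs, hs'⟩ := h.out
  obtain ⟨t, ht⟩ := hs'
  let t' : Set ((s : Set (ΓR M)) →₀ R) := ↑t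
  let P := presentationTilde (ΓR M) (s : Set (ΓR M)) hs t' ht
  have hP : P.IsFinite := ⟨⟨inferInstanceAs (Finite (s : Set (ΓR M)))⟩,
    ⟨(t.finite_toSet.to_subtype : Finite t')⟩⟩
  exact ⟨Presentation.ofIsIso.{u, u, u} (counitIso M).hom P, inferInstance⟩

set_option maxHeartbeats 1600000 in
theorem finitePresentation_ΓR_of_presentation (P : M.Presentation) [P.IsFinite] :
    Module.FinitePresentation R (ΓR M) := by
  let g := (tilde.functor R).preimage <| (tildeFinsupp _).hom ≫ P.relations.π ≫ kernel.ι _ ≫
    (tildeFinsupp (R := R) _).inv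
  let iso : cokernel ((tilde.functor R).map g) ≅ cokernel (P.relations.π ≫ kernel.ι _) := by
    refine cokernel.mapIso _ _ (tildeFinsupp _) (tildeFinsupp _) ?_
    simp only [g, (tilde.functor R).map_preimage]
    simp
  let e : (tilde.functor R).obj (cokernel g) ≅ M := PreservesCokernel.iso (tilde.functor R) g ≪≫ iso ≪≫
    IsColimit.coconePointUniqueUpToIso (colimit.isColimit _) P.isColimit
  let e' : cokernel g ≅ ΓR M :=
    tilde.isoTop (cokernel g) ≪≫ (moduleSpecΓFunctor (R := R)).mapIso e
  let q : ((P.generators.I →₀ R) ⧸ LinearMap.range g.hom) ≃ₗ[R] ΓR M :=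
    ((ModuleCat.cokernelIsoRangeQuotient g).symm ≪≫ e').toLinearEquiv
  refine Module.finitePresentation_of_surjective (q.toLinearMap ∘ₗ (LinearMap.range g.hom).mkQ)
    (q.surjective.comp (Submodule.mkQ_surjective _)) ?_
  rw [LinearMap.ker_comp, LinearEquiv.ker, Submodule.comap_bot, Submodule.ker_mkQ]
  exact LinearMap.range_eq_map g.hom ▸ (Module.Finite.fg_top).map g.hom

end Spec

variable {X : Scheme.{u}} (M : X.Modules) {U : X.Opens}

/-- Sections of the restriction to `Spec Γ(X, U)` are sections over `U`. -/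
noncomputable def onSpecΓ (hU : IsAffineOpen U) : ΓR (onSpec M hU) ≃ₗ[Γ(X, U)] Γ(M, U) where
  toFun x := M.presheaf.map (homOfLE (fromSpec_image_top hU).ge).op x
  invFun x := M.presheaf.map (homOfLE (fromSpec_image_top hU).le).op x
  map_add' := map_add _
  map_smul' r x := by
    rw [RingHom.id_apply]
    change M.presheaf.map _ ((M.restrictAppIso hU.fromSpec ⊤).hom (r • x)) = _
    rw [restrictAppIso_smul, Scheme.Modules.map_smul, ring_map_map]
    congr 1
    rw [show (homOfLE _).op = 𝟙 (op U) from rfl, CategoryTheory.Functor.map_id]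
    rfl
  left_inv x := (map_map M _ _ x).trans (map_self M _ x)
  right_inv x := (map_map M _ _ x).trans (map_self M _ x)

/-- Sections over a smaller open, as a module over the sections of the structure sheaf. -/
@[reducible]
noncomputable def resModule {V : X.Opens} (h : V ≤ U) : Module Γ(X, U) Γ(M, V) :=
  Module.compHom _ (X.presheaf.map (homOfLE h).op).hom

/-- Restriction of sections as a linear map for `resModule`. -/
noncomputable def resLinearMap {V : X.Opens} (h : V ≤ U) :
    letI := resModule M h
    Γ(M, U) →ₗ[Γ(X, U)] Γ(M, V) :=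
  letI := resModule M h
  { toFun := fun x => M.presheaf.map (homOfLE h).op x
    map_add' := map_add _
    map_smul' := fun r x => Scheme.Modules.map_smul M (homOfLE h) r x }

theorem isLocalizedModule_res [M.IsQuasicoherent] (hU : IsAffineOpen U) (f : Γ(X, U)) :
    letI := resModule M (X.basicOpen_le f)
    IsLocalizedModule.Away f (resLinearMap M (X.basicOpen_le f)) := by
  let := resModule M (X.basicOpen_le f)
  have hu : IsUnit (X.presheaf.map (homOfLE (X.basicOpen_le f)).op f) :=
    X.toRingedSpace.isUnit_res_basicOpen f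
  have hsm : ∀ (r : Γ(X, U)) (a : Γ(M, X.basicOpen f)),
      r • a = X.presheaf.map (homOfLE (X.basicOpen_le f)).op r • a := fun _ _ => rfl
  refine IsLocalizedModule.Away.mk_of_addCommGroup ?_ ?_ ?_
  · rw [Module.End.isUnit_iff]
    refine ⟨fun a b hab => ?_, fun b => ?_⟩
    · rw [Module.algebraMap_end_apply, Module.algebraMap_end_apply, hsm, hsm] at hab
      exact hu.smul_left_cancel.mp hab
    · obtain ⟨v, hv⟩ := hu
      refine ⟨(↑v⁻¹ : Γ(X, X.basicOpen f)) • b, ?_⟩
      rw [Module.algebraMap_end_apply, hsm, ← hv, smul_smul, Units.mul_inv, one_smul]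
  · intro s
    obtain ⟨n, x, hx⟩ := exists_res_eq_pow_smul hU f _ (X.basicOpen_le f) rfl s
    refine ⟨n, x, ?_⟩
    rw [hsm, map_pow]
    exact hx.symm
  · intro x hx
    exact exists_pow_smul_eq_zero hU f _ (X.basicOpen_le f) rfl x hx

theorem resModule_tower {f : Γ(X, U)} :
    letI := resModule M (X.basicOpen_le f)
    IsScalarTower Γ(X, U) Γ(X, X.basicOpen f) Γ(M, X.basicOpen f) :=
  let := resModule M (X.basicOpen_le f)
  IsScalarTower.of_algebraMap_smul fun _ _ => rfl

theorem finite_sections_of_cover [M.IsQuasicoherent] (hU : IsAffineOpen U) (s : Set Γ(X, U))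
    (hs : Ideal.span s = ⊤)
    (h : ∀ f ∈ s, Module.Finite Γ(X, X.basicOpen f) Γ(M, X.basicOpen f)) :
    Module.Finite Γ(X, U) Γ(M, U) := by
  let (g : s) := resModule M (X.basicOpen_le g.1)
  have (g : s) := resModule_tower M (f := g.1)
  have (g : s) := hU.isLocalization_basicOpen g.1
  have (g : s) := isLocalizedModule_res M hU g.1
  exact Module.Finite.of_localizationSpan' (Rₚ := fun g : s => Γ(X, X.basicOpen g.1)) s hs
    (fun g => resLinearMap M (X.basicOpen_le g.1)) (fun g => h g.1 g.2)

theorem finitePresentation_sections_of_cover [M.IsQuasicoherent] (hU : IsAffineOpen U)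
    (s : Set Γ(X, U)) (hs : Ideal.span s = ⊤)
    (h : ∀ f ∈ s, Module.FinitePresentation Γ(X, X.basicOpen f) Γ(M, X.basicOpen f)) :
    Module.FinitePresentation Γ(X, U) Γ(M, U) := by
  let (g : s) := resModule M (X.basicOpen_le g.1)
  have (g : s) := resModule_tower M (f := g.1)
  have (g : s) := hU.isLocalization_basicOpen g.1
  have (g : s) := isLocalizedModule_res M hU g.1
  exact Module.FinitePresentation.of_localizationSpan' (Rₚ := fun g : s => Γ(X, X.basicOpen g.1)) s hs
    (fun g => resLinearMap M (X.basicOpen_le g.1)) (fun g => h g.1 g.2)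

theorem fromSpec_lift {V W : X.Opens} (hV : IsAffineOpen V) (h : V ≤ W) :
    ∃ (j : Spec Γ(X, V) ⟶ W) (_ : IsOpenImmersion j), j ≫ W.ι = hV.fromSpec := by
  have H : Set.range hV.fromSpec ⊆ Set.range W.ι := by
    rw [hV.range_fromSpec, Scheme.Opens.range_ι]; exact h
  refine ⟨IsOpenImmersion.lift W.ι hV.fromSpec H, ?_, IsOpenImmersion.lift_fac _ _ H⟩
  have : IsOpenImmersion (IsOpenImmersion.lift W.ι hV.fromSpec H ≫ W.ι) := by
    rw [IsOpenImmersion.lift_fac]; infer_instance
  exact IsOpenImmersion.of_comp _ W.ι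

/-- Basic opens of `U` inside the members of a cover. -/
theorem exists_basicOpen_refinement (hU : IsAffineOpen U) {ι : Type u} (W : ι → X.Opens)
    (hW : ∀ x : X, ∃ i, x ∈ W i) :
    ∃ s : Set Γ(X, U), Ideal.span s = ⊤ ∧ ∀ f ∈ s, ∃ i, X.basicOpen f ≤ W i := by
  refine ⟨{f | ∃ i, X.basicOpen f ≤ W i}, ?_, fun f hf => hf⟩
  rw [← hU.iSup_basicOpen_eq_self_iff]
  refine le_antisymm (iSup_le fun f => X.basicOpen_le _) fun x hx => ?_
  obtain ⟨i, hi⟩ := hW x
  obtain ⟨f, hf, hxf⟩ := hU.exists_basicOpen_le ⟨x, hi⟩ hx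
  exact Opens.mem_iSup.mpr ⟨⟨f, i, hf⟩, hxf⟩

/-- Sections of a finite type quasi-coherent module over an affine open form a finite module. -/
theorem finite_sections [M.IsQuasicoherent] (hM : M.IsFiniteType) (hU : IsAffineOpen U) :
    Module.Finite Γ(X, U) Γ(M, U) := by
  obtain ⟨ι, W, σ, hW, hσ⟩ := exists_cover_generatingSections hM
  obtain ⟨s, hs, hsW⟩ := exists_basicOpen_refinement hU W hW
  refine finite_sections_of_cover M hU s hs fun f hf => ?_
  obtain ⟨i, hi⟩ := hsW f hf
  obtain ⟨j, hj, hji⟩ := fromSpec_lift (hU.basicOpen f) hi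
  let τ := (generatorsRestrict j (σ i)).ofEpi
    (restrictCompIso M j (W i).ι (hU.basicOpen f).fromSpec hji).hom
  have := hσ i
  have : τ.IsFiniteType := ⟨inferInstanceAs (Finite (σ i).I)⟩
  have := finite_ΓR_of_generators (M := onSpec M (hU.basicOpen f)) τ
  exact Module.Finite.equiv (onSpecΓ M (hU.basicOpen f))

/-- Sections of a finitely presented module over an affine open are finitely presented. -/
theorem finitePresentation_sections (hM : M.IsFinitePresentation) (hU : IsAffineOpen U) :
    Module.FinitePresentation Γ(X, U) Γ(M, U) := by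
  obtain ⟨ι, W, P, hW, hP⟩ := exists_cover_finitePresentation hM
  have : M.IsQuasicoherent := inferInstance
  obtain ⟨s, hs, hsW⟩ := exists_basicOpen_refinement hU W hW
  refine finitePresentation_sections_of_cover M hU s hs fun f hf => ?_
  obtain ⟨i, hi⟩ := hsW f hf
  obtain ⟨j, hj, hji⟩ := fromSpec_lift (hU.basicOpen f) hi
  have := hP i
  have := presentationRestrict_isFinite j (P i)
  let Q := Presentation.ofIsIso.{u, u, u}
    (restrictCompIso M j (W i).ι (hU.basicOpen f).fromSpec hji).hom
    (Scheme.Modules.presentationRestrict j (P i))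
  have := finitePresentation_ΓR_of_presentation (M := onSpec M (hU.basicOpen f)) Q
  exact Module.FinitePresentation.of_equiv (onSpecΓ M (hU.basicOpen f))

theorem isFiniteType_of_affine_cover [M.IsQuasicoherent] {ι : Type u} (W : ι → X.affineOpens)
    (hW : ∀ x : X, ∃ i, x ∈ (W i).1) (h : ∀ i, Module.Finite Γ(X, (W i).1) Γ(M, (W i).1)) :
    M.IsFiniteType := by
  have hσ : ∀ i, ∃ σ : (onSpec M (W i).2).GeneratingSections, σ.IsFiniteType := fun i =>
    have := h i
    exists_generators_of_finite (Module.Finite.equiv (onSpecΓ M (W i).2).symm)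
  choose σ hσ using hσ
  exact isFiniteType_of_cover (fun i => (W i).2.fromSpec)
    (fun x => (hW x).imp fun i hi => by rwa [(W i).2.opensRange_fromSpec]) σ hσ

theorem isFinitePresentation_of_affine_cover [M.IsQuasicoherent] {ι : Type u}
    (W : ι → X.affineOpens) (hW : ∀ x : X, ∃ i, x ∈ (W i).1)
    (h : ∀ i, Module.FinitePresentation Γ(X, (W i).1) Γ(M, (W i).1)) :
    M.IsFinitePresentation := by
  have hP : ∀ i, ∃ P : (onSpec M (W i).2).Presentation, P.IsFinite := fun i =>
    have := h i
    exists_presentation_of_finitePresentation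
      (Module.FinitePresentation.of_equiv (onSpecΓ M (W i).2).symm)
  choose P hP using hP
  exact isFinitePresentation_of_cover (fun i => (W i).2.fromSpec)
    (fun x => (hW x).imp fun i hi => by rwa [(W i).2.opensRange_fromSpec]) P hP

theorem isFiniteType_iff_affine [M.IsQuasicoherent] :
    M.IsFiniteType ↔ ∀ U : X.affineOpens, Module.Finite Γ(X, U.1) Γ(M, U.1) :=
  ⟨fun h U => finite_sections M h U.2, fun h => isFiniteType_of_affine_cover M id exists_affine_mem h⟩

theorem isFinitePresentation_iff_affine [M.IsQuasicoherent] :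
    M.IsFinitePresentation ↔ ∀ U : X.affineOpens, Module.FinitePresentation Γ(X, U.1) Γ(M, U.1) :=
  ⟨fun h U => finitePresentation_sections M h U.2,
    fun h => isFinitePresentation_of_affine_cover M id exists_affine_mem h⟩

end Groth.Agent.QCohLib
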