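import Mathlib.AlgebraicGeometry.Morphisms.QuasiSeparated
import Groth.Agent.QCohLib.Closure

/-!
# Sections over quasi-compact opens and a criterion for quasi-coherence

* `exists_pow_smul_eq_zero_of_isCompact`, `exists_res_eq_pow_smul_of_isCompact`;
* `isQuasicoherent_of_sections`;
* `isQuasicoherent_pushforward`: push-forward along quasi-compact quasi-separated morphisms.
-/

universe u

open CategoryTheory CategoryTheory.Limits AlgebraicGeometry TopologicalSpace Opposite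

set_option backward.isDefEq.respectTransparency false

namespace Groth.Agent.QCohLib

variable {X : Scheme.{u}} {M : X.Modules} {U : X.Opens}

theorem exists_finite_affine_cover (hc : IsCompact (U : Set X)) :
    ∃ (κ : Type u) (_ : Fintype κ) (W : κ → X.Opens),
      (∀ a, IsAffineOpen (W a)) ∧ (∀ a, W a ≤ U) ∧ U ≤ ⨆ a, W a := by
  classical
  obtain ⟨t, ht⟩ := hc.elim_finite_subcover
    (fun V : {V : X.affineOpens // V.1 ≤ U} => (V.1.1 : Set X)) (fun V => V.1.1.2)
    (fun x hx => by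
      obtain ⟨V, hV, hxV, hVU⟩ := exists_isAffineOpen_mem_and_subset hx
      exact Set.mem_iUnion.mpr ⟨⟨⟨V, hV⟩, hVU⟩, hxV⟩)
  refine ⟨t, inferInstance, fun a => a.1.1.1, fun a => a.1.1.2, fun a => a.1.2, fun x hx => ?_⟩
  obtain ⟨a, ha, hxa⟩ := Set.mem_iUnion₂.mp (ht hx)
  exact Opens.mem_iSup.mpr ⟨⟨a, ha⟩, hxa⟩

theorem exists_pow_smul_eq_zero_of_isCompact [M.IsQuasicoherent] (hc : IsCompact (U : Set X))
    (f : Γ(X, U)) (D : X.Opens) (hDU : D ≤ U) (hD : D = X.basicOpen f) (x : Γ(M, U))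
    (hx : M.presheaf.map (homOfLE hDU).op x = 0) : ∃ n : ℕ, f ^ n • x = 0 := by
  subst hD
  obtain ⟨κ, _, W, hW, hWU, hsup⟩ := exists_finite_affine_cover hc
  have hbo : ∀ a, W a ⊓ X.basicOpen f = X.basicOpen (X.presheaf.map (homOfLE (hWU a)).op f) :=
    fun a => (X.basicOpen_res _ _).symm
  have hloc : ∀ a, ∃ m : ℕ, ∀ k ≥ m, M.presheaf.map (homOfLE (hWU a)).op (f ^ k • x) = 0 := by
    intro a
    obtain ⟨m, hm⟩ := exists_pow_smul_eq_zero (hW a) _ (W a ⊓ X.basicOpen f) inf_le_left (hbo a)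
      (M.presheaf.map (homOfLE (hWU a)).op x) (by
        rw [map_map, ← map_map M (inf_le_right : W a ⊓ X.basicOpen f ≤ _) hDU, hx, map_zero])
    refine ⟨m, fun k hk => ?_⟩
    rw [Scheme.Modules.map_smul, map_pow, ← Nat.sub_add_cancel hk, pow_add, mul_smul, hm, smul_zero]
  choose m hm using hloc
  refine ⟨Finset.univ.sup m, TopCat.Sheaf.eq_of_locally_eq' ⟨M.presheaf, M.isSheaf⟩ W U
    (fun a => homOfLE (hWU a)) hsup _ _ fun a => ?_⟩
  change M.presheaf.map (homOfLE (hWU a)).op _ = M.presheaf.map (homOfLE (hWU a)).op 0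
  rw [map_zero]
  exact hm a _ (Finset.le_sup (Finset.mem_univ a))

theorem exists_res_eq_pow_smul_of_isCompact [M.IsQuasicoherent] (hc : IsCompact (U : Set X))
    (hq : IsQuasiSeparated (U : Set X))
    (f : Γ(X, U)) (D : X.Opens) (hDU : D ≤ U) (hD : D = X.basicOpen f) (s : Γ(M, D)) :
    ∃ (n : ℕ) (x : Γ(M, U)),
      M.presheaf.map (homOfLE hDU).op x = (X.presheaf.map (homOfLE hDU).op f) ^ n • s := by
  subst hD
  obtain ⟨κ, _, W, hW, hWU, hsup⟩ := exists_finite_affine_cover hc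
  let D := X.basicOpen f
  have hbo : ∀ V (h : V ≤ U), V ⊓ D = X.basicOpen (X.presheaf.map (homOfLE h).op f) :=
    fun V h => (X.basicOpen_res _ _).symm
  have hloc : ∀ a, ∃ (n : ℕ) (y : Γ(M, W a)), ∀ k ≥ n,
      M.presheaf.map (homOfLE (inf_le_left : W a ⊓ D ≤ W a)).op
          (X.presheaf.map (homOfLE (hWU a)).op f ^ (k - n) • y) =
        X.presheaf.map (homOfLE (inf_le_left.trans (hWU a) : W a ⊓ D ≤ U)).op f ^ k •
          M.presheaf.map (homOfLE (inf_le_right : W a ⊓ D ≤ D)).op s := by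
    intro a
    obtain ⟨n, y, hy⟩ := exists_res_eq_pow_smul (hW a) _ (W a ⊓ D) inf_le_left (hbo _ (hWU a))
      (M.presheaf.map (homOfLE (inf_le_right : W a ⊓ D ≤ D)).op s)
    refine ⟨n, y, fun k hk => ?_⟩
    rw [Scheme.Modules.map_smul, hy, map_pow, ring_map_map, ← mul_smul, ← pow_add,
      Nat.sub_add_cancel hk]
  choose n y hy using hloc
  let n₀ := Finset.univ.sup n
  obtain ⟨u, hu⟩ : ∃ u : ∀ a, Γ(M, W a),
      ∀ a, M.presheaf.map (homOfLE (inf_le_left : W a ⊓ D ≤ W a)).op (u a) =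
        X.presheaf.map (homOfLE (inf_le_left.trans (hWU a) : W a ⊓ D ≤ U)).op f ^ n₀ •
          M.presheaf.map (homOfLE (inf_le_right : W a ⊓ D ≤ D)).op s :=
    ⟨_, fun a => hy a n₀ (Finset.le_sup (Finset.mem_univ a))⟩
  have hov : ∀ ab : κ × κ, ∃ m : ℕ, ∀ k ≥ m,
      X.presheaf.map (homOfLE (inf_le_left.trans (hWU ab.1) : W ab.1 ⊓ W ab.2 ≤ U)).op f ^ k •
        (M.presheaf.map (homOfLE (inf_le_left : W ab.1 ⊓ W ab.2 ≤ W ab.1)).op (u ab.1) -
          M.presheaf.map (homOfLE (inf_le_right : W ab.1 ⊓ W ab.2 ≤ W ab.2)).op (u ab.2)) = 0 := by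
    rintro ⟨a, b⟩
    have hcomp : IsCompact ((W a ⊓ W b : X.Opens) : Set X) :=
      hq (W a) (W b) (hWU a) (W a).2 (hW a).isCompact (hWU b) (W b).2 (hW b).isCompact
    obtain ⟨m, hm⟩ := exists_pow_smul_eq_zero_of_isCompact hcomp _ (W a ⊓ W b ⊓ D) inf_le_left
      (hbo _ (inf_le_left.trans (hWU a)))
      (M.presheaf.map (homOfLE (inf_le_left : W a ⊓ W b ≤ W a)).op (u a) -
        M.presheaf.map (homOfLE (inf_le_right : W a ⊓ W b ≤ W b)).op (u b)) (by
        have ha : W a ⊓ W b ⊓ D ≤ W a ⊓ D := inf_le_inf_right D inf_le_left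
        have hb : W a ⊓ W b ⊓ D ≤ W b ⊓ D := inf_le_inf_right D inf_le_right
        rw [map_sub, map_map, map_map, ← map_map M ha inf_le_left (u a),
          ← map_map M hb inf_le_left (u b), hu, hu, Scheme.Modules.map_smul,
          Scheme.Modules.map_smul, map_map, map_map, map_pow, map_pow, ring_map_map, ring_map_map,
          sub_self])
    refine ⟨m, fun k hk => ?_⟩
    rw [← Nat.sub_add_cancel hk, pow_add, mul_smul, hm, smul_zero]
  choose m hm using hov
  let m₀ := Finset.univ.sup m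
  obtain ⟨σ, hσ, -⟩ := TopCat.Sheaf.existsUnique_gluing' ⟨M.presheaf, M.isSheaf⟩ W U
    (fun a => homOfLE (hWU a)) hsup
    (fun a => X.presheaf.map (homOfLE (hWU a)).op f ^ m₀ • u a) (fun a b => by
      change M.presheaf.map (homOfLE (inf_le_left : W a ⊓ W b ≤ W a)).op _ =
        M.presheaf.map (homOfLE (inf_le_right : W a ⊓ W b ≤ W b)).op _
      rw [Scheme.Modules.map_smul, Scheme.Modules.map_smul, map_pow, map_pow, ring_map_map,
        ring_map_map, ← sub_eq_zero, ← smul_sub]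
      exact hm (a, b) m₀ (Finset.le_sup (Finset.mem_univ (a, b))))
  refine ⟨m₀ + n₀, σ, ?_⟩
  refine TopCat.Sheaf.eq_of_locally_eq' ⟨M.presheaf, M.isSheaf⟩ (fun a => W a ⊓ D) D
    (fun a => homOfLE inf_le_right) ?_ _ _ fun a => ?_
  · intro x hx
    obtain ⟨a, ha⟩ := Opens.mem_iSup.mp (hsup (hDU hx))
    exact Opens.mem_iSup.mpr ⟨a, ha, hx⟩
  · change M.presheaf.map (homOfLE (inf_le_right : W a ⊓ D ≤ D)).op _ =
      M.presheaf.map (homOfLE (inf_le_right : W a ⊓ D ≤ D)).op _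
    rw [map_map, ← map_map M (inf_le_left : W a ⊓ D ≤ W a) (hWU a),
      show M.presheaf.map (homOfLE (hWU a)).op σ = _ from hσ a, Scheme.Modules.map_smul, hu,
      Scheme.Modules.map_smul, map_pow, map_pow, ring_map_map, ring_map_map, ← mul_smul, ← pow_add]

/-- The localisation properties on affine opens characterise quasi-coherence. -/
theorem isQuasicoherent_of_sections
    (h₁ : ∀ (U : X.affineOpens) (f : Γ(X, U.1)) (x : Γ(M, U.1)),
      M.presheaf.map (homOfLE (X.basicOpen_le f)).op x = 0 → ∃ n : ℕ, f ^ n • x = 0)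
    (h₂ : ∀ (U : X.affineOpens) (f : Γ(X, U.1)) (s : Γ(M, X.basicOpen f)),
      ∃ (n : ℕ) (x : Γ(M, U.1)), M.presheaf.map (homOfLE (X.basicOpen_le f)).op x =
        (X.presheaf.map (homOfLE (X.basicOpen_le f)).op f) ^ n • s) :
    M.IsQuasicoherent := by
  rw [isQuasicoherent_iff_affine]
  intro U
  rw [isQuasicoherent_iff_isIso_fromTildeΓ, isIso_fromTildeΓ_iff_isLocalizing]
  intro f
  have hTU : U.2.fromSpec ''ᵁ ⊤ ≤ U.1 := fromSpec_image_le U.2 ⊤
  have hUT : U.1 ≤ U.2.fromSpec ''ᵁ ⊤ := (fromSpec_image_top U.2).ge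
  let D' : (Spec Γ(X, U.1)).Opens := PrimeSpectrum.basicOpen f
  have hD' : U.2.fromSpec ''ᵁ D' = X.basicOpen f := U.2.fromSpec_image_basicOpen f
  refine IsLocalizedModule.Away.mk_of_addCommGroup ?_ ?_ ?_
  · exact Scheme.Modules.isUnit_algebraMap_end_of_le_basicOpen f le_rfl
  · intro s
    let s' : Γ(M, X.basicOpen f) :=
      M.presheaf.map (homOfLE hD'.ge).op ((M.restrictAppIso U.2.fromSpec D').hom s)
    obtain ⟨n, x, hx⟩ := h₂ U f s'
    let y : Γ(onSpec M U.2, ⊤) := M.presheaf.map (homOfLE hTU).op x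
    refine ⟨n, y, ?_⟩
    apply (ConcreteCategory.bijective_of_isIso (M.restrictAppIso U.2.fromSpec D').hom).1
    have h3 := congrArg (M.presheaf.map (homOfLE hD'.le).op) hx
    rw [map_map, Scheme.Modules.map_smul, map_map, map_self, map_pow, ring_map_map] at h3
    refine (restrictAppIso_smul M U.2 D' (f ^ n) s).trans ?_
    rw [map_pow]
    refine h3.symm.trans ?_
    exact (map_map M (U.2.fromSpec.image_mono le_top) hTU x).symm
  · intro x hx
    let x' : Γ(M, U.1) :=
      M.presheaf.map (homOfLE hUT).op ((M.restrictAppIso U.2.fromSpec ⊤).hom x)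
    obtain ⟨n, hn⟩ := h₁ U f x' (by
      have h4 := congrArg (M.restrictAppIso U.2.fromSpec D').hom hx
      rw [map_zero] at h4
      change M.presheaf.map (homOfLE (U.2.fromSpec.image_mono le_top)).op
        ((M.restrictAppIso U.2.fromSpec ⊤).hom x) = 0 at h4
      rw [map_map, ← map_map M hD'.ge (U.2.fromSpec.image_mono le_top), h4, map_zero])
    refine ⟨n, ?_⟩
    apply (ConcreteCategory.bijective_of_isIso (M.restrictAppIso U.2.fromSpec ⊤).hom).1
    have h5 := congrArg (M.presheaf.map (homOfLE hTU).op) hn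
    rw [map_zero, Scheme.Modules.map_smul, map_map, map_self] at h5
    rw [restrictAppIso_smul, map_zero]
    exact h5

/-- Push-forward along a qcqs morphism preserves quasi-coherence. -/
theorem isQuasicoherent_pushforward {Y : Scheme.{u}} (g : X ⟶ Y) [QuasiCompact g] [QuasiSeparated g]
    [M.IsQuasicoherent] : ((Scheme.Modules.pushforward g).obj M).IsQuasicoherent := by
  refine isQuasicoherent_of_sections (fun U f x hx => ?_) (fun U f s => ?_)
  · obtain ⟨n, hn⟩ := exists_pow_smul_eq_zero_of_isCompact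
      (QuasiCompact.isCompact_preimage (f := g) _ U.1.2 U.2.isCompact) (g.app U.1 f)
      (g ⁻¹ᵁ Y.basicOpen f) (g.preimage_mono (Y.basicOpen_le f)) (Scheme.preimage_basicOpen g f)
      x hx
    refine ⟨n, ?_⟩
    change g.app U.1 (f ^ n) • (show Γ(M, g ⁻¹ᵁ U.1) from x) = 0
    rw [map_pow]
    exact hn
  · have : IsAffine U.1.toScheme := U.2
    have : QuasiSeparatedSpace (g ⁻¹ᵁ U.1 : X.Opens) :=
      quasiSeparatedSpace_of_quasiSeparated (g ∣_ U.1)
    obtain ⟨n, x, hx⟩ := exists_res_eq_pow_smul_of_isCompact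
      (QuasiCompact.isCompact_preimage (f := g) _ U.1.2 U.2.isCompact)
      ((isQuasiSeparated_iff_quasiSeparatedSpace _ (g ⁻¹ᵁ U.1).2).mpr this) (g.app U.1 f)
      (g ⁻¹ᵁ Y.basicOpen f) (g.preimage_mono (Y.basicOpen_le f)) (Scheme.preimage_basicOpen g f) s
    refine ⟨n, x, hx.trans ?_⟩
    change _ = g.app _ ((Y.presheaf.map (homOfLE (Y.basicOpen_le f)).op f) ^ n) •
      (show Γ(M, g ⁻¹ᵁ Y.basicOpen f) from s)
    rw [map_pow]
    congr 2
    exact (ConcreteCategory.congr_hom (g.naturality (homOfLE (Y.basicOpen_le f)).op) f).symm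

end Groth.Agent.QCohLib
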