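import Mathlib.RingTheory.Noetherian.Basic
import Mathlib.RingTheory.Finiteness.Finsupp
import Mathlib.AlgebraicGeometry.Noetherian
import Groth.Prelude.Def_Coh
import Groth.Prelude.Def_CohB1
import Groth.Agent.QCohLib.FiniteType
import Groth.Agent.QCohLib.Criterion

/-!
# Coherent modules (`Coh.IsCoh`)

* `appLinearMap`; `Spec` versions `isFiniteType_iff_Spec`, `isFinitePresentation_iff_Spec`;
* on locally Noetherian schemes: `isCoh_iff_isFP`, sub-objects (`isCoh_of_mono`), quotients
  (`isCoh_of_epi`), kernels, cokernels, images, extensions, finite push-forwards.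
-/

universe u

open CategoryTheory CategoryTheory.Limits AlgebraicGeometry TopologicalSpace Opposite SheafOfModules

set_option backward.isDefEq.respectTransparency false

namespace Groth.Agent.QCohLib

variable {X : Scheme.{u}} {M N : X.Modules}

/-- `φ.app U` as a linear map. -/
noncomputable def appLinearMap (φ : M ⟶ N) (U : X.Opens) : Γ(M, U) →ₗ[Γ(X, U)] Γ(N, U) where
  toFun := φ.app U
  map_add' := map_add _
  map_smul' r x := Scheme.Modules.Hom.app_smul φ r x

@[simp]
theorem appLinearMap_apply (φ : M ⟶ N) (U : X.Opens) (x : Γ(M, U)) :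
    appLinearMap φ U x = φ.app U x := rfl

theorem isCoh_iff : Coh.IsCoh M ↔ M.IsQuasicoherent ∧
    ∀ U : X.affineOpens, Module.Finite Γ(X, U.1) Γ(M, U.1) :=
  ⟨fun h => ⟨h.1, fun U => have := h.1; finite_sections M h.2 U.2⟩,
    fun h => ⟨h.1, have := h.1; (isFiniteType_iff_affine M).mpr h.2⟩⟩

theorem isCoh_of_iso (e : M ≅ N) (h : Coh.IsCoh M) : Coh.IsCoh N := by
  have := h.1
  have hN : N.IsQuasicoherent := isQuasicoherent_of_iso e
  refine isCoh_iff.mpr ⟨hN, fun U => ?_⟩
  have := (isCoh_iff.mp h).2 U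
  exact Module.Finite.of_surjective (appLinearMap e.hom U.1)
    (ConcreteCategory.bijective_of_isIso (e.hom.app U.1)).2

theorem isCoh_of_isFP (h : CohB1.IsFP M) : Coh.IsCoh M :=
  ⟨have : M.IsFinitePresentation := h; inferInstance,
    have : M.IsFinitePresentation := h; inferInstance⟩

theorem isCoh_iff_isFP [IsLocallyNoetherian X] : Coh.IsCoh M ↔ CohB1.IsFP M := by
  refine ⟨fun h => ?_, isCoh_of_isFP⟩
  have := h.1
  refine (isFinitePresentation_iff_affine M).mpr fun U => ?_
  have := IsLocallyNoetherian.component_noetherian U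
  have := (isCoh_iff.mp h).2 U
  exact Module.finitePresentation_of_finite _ _

theorem isCoh_of_mono [IsLocallyNoetherian X] (i : N ⟶ M) [Mono i] (hM : Coh.IsCoh M)
    (hN : N.IsQuasicoherent) : Coh.IsCoh N := by
  refine isCoh_iff.mpr ⟨hN, fun U => ?_⟩
  have := IsLocallyNoetherian.component_noetherian U
  have := (isCoh_iff.mp hM).2 U
  exact Module.Finite.of_injective (appLinearMap i U.1)
    ((mono_iff_app_injective i).mp inferInstance U.1)

theorem isCoh_of_epi (p : M ⟶ N) [Epi p] (hM : Coh.IsCoh M) (hN : N.IsQuasicoherent) :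
    Coh.IsCoh N := by
  refine isCoh_iff.mpr ⟨hN, fun U => ?_⟩
  have := (isCoh_iff.mp hM).2 U
  have := hM.1
  exact Module.Finite.of_surjective (appLinearMap p U.1) (app_surjective_of_epi p U.2)

theorem isCoh_kernel [IsLocallyNoetherian X] (φ : M ⟶ N) (hM : Coh.IsCoh M)
    (hN : N.IsQuasicoherent) : Coh.IsCoh (kernel φ) :=
  have := hM.1
  isCoh_of_mono (kernel.ι φ) hM (isQuasicoherent_kernel φ)

theorem isCoh_cokernel (φ : M ⟶ N) (hM : M.IsQuasicoherent) (hN : Coh.IsCoh N) :
    Coh.IsCoh (cokernel φ) :=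
  have := hN.1
  isCoh_of_epi (cokernel.π φ) hN (isQuasicoherent_cokernel φ)

theorem isCoh_image [IsLocallyNoetherian X] (φ : M ⟶ N) (hM : M.IsQuasicoherent)
    (hN : Coh.IsCoh N) : Coh.IsCoh (Abelian.image φ) :=
  have := hN.1
  isCoh_of_mono (Abelian.image.ι φ) hN (isQuasicoherent_image φ)

theorem isCoh_of_extension [IsLocallyNoetherian X] (S : ShortComplex X.Modules) (hS : S.ShortExact)
    (h₁ : Coh.IsCoh S.X₁) (h₃ : Coh.IsCoh S.X₃) : Coh.IsCoh S.X₂ := by
  have := h₁.1
  have := h₃.1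
  refine isCoh_iff.mpr ⟨isQuasicoherent_of_extension S hS, fun U => ?_⟩
  have := (isCoh_iff.mp h₁).2 U
  have := (isCoh_iff.mp h₃).2 U
  have hx := sections_exact_of_shortExact hS U.1
  let f := appLinearMap S.f U.1
  let g := appLinearMap S.g U.1
  have : Module.Finite Γ(X, U.1) (LinearMap.range f) := inferInstance
  have hker : LinearMap.ker g = LinearMap.range f := by
    refine le_antisymm (fun s hs => hx.2 s hs) ?_
    rintro _ ⟨c, rfl⟩
    change S.g.app U.1 (S.f.app U.1 c) = 0
    rw [← CategoryTheory.comp_apply, ← Scheme.Modules.Hom.comp_app, S.zero]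
    rfl
  have : Module.Finite Γ(X, U.1) (LinearMap.ker g) := hker ▸ inferInstance
  have : Module.Finite Γ(X, U.1) (Γ(S.X₂, U.1) ⧸ LinearMap.ker g) :=
    Module.Finite.equiv (g.quotKerEquivOfSurjective (app_surjective_of_shortExact hS U.2)).symm
  exact Module.Finite.of_submodule_quotient (LinearMap.ker g)

/-- Push-forward along a finite morphism preserves coherence. -/
theorem isCoh_pushforward {Y : Scheme.{u}} (f : X ⟶ Y) [IsFinite f] (hM : Coh.IsCoh M) :
    Coh.IsCoh ((Coh.push f).obj M) := by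
  have := hM.1
  refine isCoh_iff.mpr ⟨isQuasicoherent_pushforward f, fun U => ?_⟩
  have := (isCoh_iff.mp hM).2 ⟨f ⁻¹ᵁ U.1, U.2.preimage f⟩
  algebraize [(f.app U.1).hom]
  have : Module.Finite Γ(Y, U.1) Γ(X, f ⁻¹ᵁ U.1) := IsFinite.finite_app f U.1 U.2
  let : Module Γ(Y, U.1) Γ(M, f ⁻¹ᵁ U.1) := Module.compHom _ (f.app U.1).hom
  have : IsScalarTower Γ(Y, U.1) Γ(X, f ⁻¹ᵁ U.1) Γ(M, f ⁻¹ᵁ U.1) :=
    IsScalarTower.of_algebraMap_smul fun _ _ => rfl
  exact Module.Finite.trans Γ(X, f ⁻¹ᵁ U.1) Γ(M, f ⁻¹ᵁ U.1)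

section Spec

variable {R : CommRingCat.{u}} {P : (Spec R).Modules}

/-- `R`-sections versus sections over the global ring. -/
theorem finite_ΓR_of_finite [Module.Finite Γ(Spec R, ⊤) Γ(P, ⊤)] : Module.Finite R (ΓR P) := by
  let σ : Γ(Spec R, ⊤) →+* R := (Scheme.ΓSpecIso R).hom.hom
  have : RingHomSurjective σ :=
    ⟨fun r => ⟨(Scheme.ΓSpecIso R).inv r, Iso.inv_hom_id_apply (Scheme.ΓSpecIso R) r⟩⟩
  let g : Γ(P, ⊤) →ₛₗ[σ] ΓR P :=
    { toFun := fun x => x
      map_add' := fun _ _ => rfl
      map_smul' := fun r x => by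
        refine Eq.trans ?_ (Scheme.Modules.smul_Spec_def (σ r) x).symm
        congr 1
        rw [show (Scheme.ΓSpecIso R).inv (σ r) = r from Iso.hom_inv_id_apply (Scheme.ΓSpecIso R) r,
          show (⊤ : (Spec R).Opens).leTop.op = 𝟙 _ from rfl, CategoryTheory.Functor.map_id]
        rfl }
  exact Module.Finite.of_surjective g fun x => ⟨x, rfl⟩

theorem finitePresentation_ΓR_of_finitePresentation
    [Module.FinitePresentation Γ(Spec R, ⊤) Γ(P, ⊤)] : Module.FinitePresentation R (ΓR P) := by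
  algebraize [(Scheme.ΓSpecIso R).inv.hom]
  have hA : Module.FinitePresentation R Γ(Spec R, ⊤) :=
    Module.FinitePresentation.of_equiv
      ({ toFun := fun r => (Scheme.ΓSpecIso R).inv.hom r
         invFun := fun r => (Scheme.ΓSpecIso R).hom.hom r
         left_inv := fun r => Iso.inv_hom_id_apply (Scheme.ΓSpecIso R) r
         right_inv := fun r => Iso.hom_inv_id_apply (Scheme.ΓSpecIso R) r
         map_add' := fun r x => map_add (Scheme.ΓSpecIso R).inv.hom r x
         map_smul' := fun r x => (map_mul (Scheme.ΓSpecIso R).inv.hom r x).trans (Algebra.smul_def r _).symm } :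
        R ≃ₗ[R] Γ(Spec R, ⊤))
  let : Module R Γ(P, ⊤) := Module.compHom _ (Scheme.ΓSpecIso R).inv.hom
  have : IsScalarTower R Γ(Spec R, ⊤) Γ(P, ⊤) := IsScalarTower.of_algebraMap_smul fun _ _ => rfl
  have h := Module.FinitePresentation.trans R Γ(P, ⊤) Γ(Spec R, ⊤)
  exact Module.FinitePresentation.of_equiv
    ({ toFun := fun x => x
       invFun := fun x => x
       left_inv := fun _ => rfl
       right_inv := fun _ => rfl
       map_add' := fun _ _ => rfl
       map_smul' := fun r x => by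
        refine Eq.trans ?_ (Scheme.Modules.smul_Spec_def r x).symm
        rw [show (⊤ : (Spec R).Opens).leTop.op = 𝟙 _ from rfl, CategoryTheory.Functor.map_id]
        rfl } : Γ(P, ⊤) ≃ₗ[R] ΓR P)

theorem isFiniteType_iff_Spec [P.IsQuasicoherent] : P.IsFiniteType ↔ Module.Finite R (ΓR P) := by
  refine ⟨fun h => ?_, fun h => ?_⟩
  · have := finite_sections P h (isAffineOpen_top (Spec R))
    exact finite_ΓR_of_finite
  · obtain ⟨σ, hσ⟩ := exists_generators_of_finite h
    exact isFiniteType_of_cover (ι := PUnit) (fun _ => 𝟙 (Spec R))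
      (fun x => ⟨⟨⟩, ⟨x, rfl⟩⟩) (fun _ => generatorsRestrict _ σ)
      (fun _ => generatorsRestrict_isFiniteType _ σ)

theorem isFinitePresentation_iff_Spec [P.IsQuasicoherent] :
    P.IsFinitePresentation ↔ Module.FinitePresentation R (ΓR P) := by
  refine ⟨fun h => ?_, fun h => ?_⟩
  · have := finitePresentation_sections P h (isAffineOpen_top (Spec R))
    exact finitePresentation_ΓR_of_finitePresentation
  · obtain ⟨Q, hQ⟩ := exists_presentation_of_finitePresentation h
    exact isFinitePresentation_of_cover (ι := PUnit) (fun _ => 𝟙 (Spec R))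
      (fun x => ⟨⟨⟩, ⟨x, rfl⟩⟩) (fun _ => Scheme.Modules.presentationRestrict _ Q)
      (fun _ => presentationRestrict_isFinite _ Q)

end Spec

end Groth.Agent.QCohLib
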