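import Mathlib.Algebra.Category.ModuleCat.Sheaf.PullbackFree
import Mathlib.CategoryTheory.Filtered.Final
import Mathlib.CategoryTheory.Adjunction.Unique
import Mathlib.Algebra.Category.ModuleCat.ChangeOfRings
import Groth.Agent.QCohLib.Coherent

/-!
# Pullback of quasi-coherent modules

* `pullbackUnitIso`, `pullbackFreeIso`;
* `isQuasicoherent_pullback`, `isFiniteType_pullback`, `isFinitePresentation_pullback`,
  `isCoh_pullback`;
* `pullbackTildeIso`: `(Spec φ)^* (M~) ≅ (S ⊗_R M)~`.
-/

universe u

open CategoryTheory CategoryTheory.Limits AlgebraicGeometry TopologicalSpace Opposite SheafOfModules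

set_option backward.isDefEq.respectTransparency false

namespace Groth.Agent.QCohLib

variable {X Y : Scheme.{u}} (f : X ⟶ Y) {M : Y.Modules}

instance opensMap_final : (Opens.map f.base).Final :=
  Functor.final_of_exists_of_isFiltered _ (fun _ => ⟨⊤, ⟨homOfLE le_top⟩⟩)
    (fun {_ V} _ _ => ⟨V, 𝟙 _, Subsingleton.elim _ _⟩)

/-- The pullback of the structure sheaf is the structure sheaf. -/
noncomputable def pullbackUnitIso :
    (Scheme.Modules.pullback f).obj (unit Y.ringCatSheaf) ≅ unit X.ringCatSheaf :=
  haveI : IsIso (SheafOfModules.pullbackObjUnitToUnit f.toRingCatSheafHom) := inferInstance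
  asIso (SheafOfModules.pullbackObjUnitToUnit f.toRingCatSheafHom)

/-- The pullback of a free module is free. -/
noncomputable def pullbackFreeIso (I : Type u) :
    (Scheme.Modules.pullback f).obj (free (R := Y.ringCatSheaf) I) ≅
      free (R := X.ringCatSheaf) I :=
  haveI : PreservesColimitsOfSize.{u, u} (Scheme.Modules.pullback.{u} f) := inferInstance
  (mapFreeIso (Scheme.Modules.pullback.{u} f) I (pullbackUnitIso f).symm).symm

/-- Generators of the pullback. -/
noncomputable def generatorsPullback (σ : M.GeneratingSections) :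
    ((Scheme.Modules.pullback f).obj M).GeneratingSections :=
  haveI : PreservesColimitsOfSize.{u, u} (Scheme.Modules.pullback.{u} f) := inferInstance
  σ.map (Scheme.Modules.pullback.{u} f) (pullbackUnitIso f).symm

theorem generatorsPullback_isFiniteType (σ : M.GeneratingSections) [h : σ.IsFiniteType] :
    (generatorsPullback f σ).IsFiniteType :=
  ⟨h.finite⟩

/-- A presentation of the pullback. -/
noncomputable def presentationPullback (P : M.Presentation) :
    ((Scheme.Modules.pullback f).obj M).Presentation :=
  haveI : PreservesColimitsOfSize.{u, u} (Scheme.Modules.pullback.{u} f) := inferInstance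
  P.map (Scheme.Modules.pullback.{u} f) (pullbackUnitIso f).symm

theorem presentationPullback_isFinite (P : M.Presentation) [P.IsFinite] :
    (presentationPullback f P).IsFinite :=
  ⟨⟨inferInstanceAs (Finite P.generators.I)⟩, ⟨inferInstanceAs (Finite P.relations.I)⟩⟩

/-- Pullback commutes with restriction to opens. -/
noncomputable def pullbackRestrictIso (M : Y.Modules) {Z Z' : Scheme.{u}} (g : Z ⟶ Z') (j : Z ⟶ X)
    (j' : Z' ⟶ Y) [IsOpenImmersion j] [IsOpenImmersion j'] (h : g ≫ j' = j ≫ f) :
    (Scheme.Modules.pullback g).obj (M.restrict j') ≅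
      ((Scheme.Modules.pullback f).obj M).restrict j :=
  (Scheme.Modules.pullback g).mapIso ((Scheme.Modules.restrictFunctorIsoPullback j').app M) ≪≫
    (Scheme.Modules.pullbackComp g j').app M ≪≫
    (Scheme.Modules.pullbackCongr h).app M ≪≫
    ((Scheme.Modules.pullbackComp j f).app M).symm ≪≫
    ((Scheme.Modules.restrictFunctorIsoPullback j).app _).symm

variable (M)

theorem isQuasicoherent_pullback [M.IsQuasicoherent] :
    ((Scheme.Modules.pullback f).obj M).IsQuasicoherent := by
  obtain ⟨ι, U, P, hU, -⟩ := M.exists_isOpenCover_presentation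
  refine isQuasicoherent_of_cover (ι := ι) (fun i => (f ⁻¹ᵁ U i).ι) (fun x => ?_) fun i => ?_
  · obtain ⟨i, hi⟩ := hU.exists_mem (f x)
    exact ⟨i, by simpa using hi⟩
  · exact (Presentation.ofIsIso.{u, u, u}
      (pullbackRestrictIso f M (f ∣_ U i) _ _ (morphismRestrict_ι f (U i))).hom
      (presentationPullback (f ∣_ U i) (P i))).isQuasicoherent

theorem isFiniteType_pullback (hM : M.IsFiniteType) :
    ((Scheme.Modules.pullback f).obj M).IsFiniteType := by
  obtain ⟨ι, U, σ, hU, hσ⟩ := exists_cover_generatingSections hM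
  refine isFiniteType_of_cover (ι := ι) (fun i => (f ⁻¹ᵁ U i).ι) (fun x => ?_)
    (fun i => (generatorsPullback (f ∣_ U i) (σ i)).ofEpi
      (pullbackRestrictIso f M (f ∣_ U i) _ _ (morphismRestrict_ι f (U i))).hom) fun i => ?_
  · obtain ⟨i, hi⟩ := hU (f x)
    exact ⟨i, by simpa using hi⟩
  · have := hσ i
    exact ⟨inferInstanceAs (Finite (σ i).I)⟩

theorem isFinitePresentation_pullback (hM : M.IsFinitePresentation) :
    ((Scheme.Modules.pullback f).obj M).IsFinitePresentation := by
  obtain ⟨ι, U, P, hU, hP⟩ := exists_cover_finitePresentation hM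
  refine isFinitePresentation_of_cover (ι := ι) (fun i => (f ⁻¹ᵁ U i).ι) (fun x => ?_)
    (fun i => Presentation.ofIsIso.{u, u, u}
      (pullbackRestrictIso f M (f ∣_ U i) _ _ (morphismRestrict_ι f (U i))).hom
      (presentationPullback (f ∣_ U i) (P i))) fun i => ?_
  · obtain ⟨i, hi⟩ := hU (f x)
    exact ⟨i, by simpa using hi⟩
  · have := hP i
    have := presentationPullback_isFinite (f ∣_ U i) (P i)
    infer_instance

theorem isCoh_pullback (hM : Coh.IsCoh M) : Coh.IsCoh ((Scheme.Modules.pullback f).obj M) :=
  ⟨have := hM.1; isQuasicoherent_pullback f M, isFiniteType_pullback f M hM.2⟩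

section Spec

variable {R S : CommRingCat.{u}} (φ : R ⟶ S)

/-- Global sections commute with push-forward along `Spec φ`. -/
noncomputable def pushforwardΓIso :
    Scheme.Modules.pushforward (Spec.map φ) ⋙ moduleSpecΓFunctor (R := R) ≅
      moduleSpecΓFunctor (R := S) ⋙ ModuleCat.restrictScalars φ.hom :=
  NatIso.ofComponents
    (fun N => (TopCat.Sheaf.forget _ _ ⋙ (CategoryTheory.evaluation _ _).obj (.op ⊤)).mapIso
      ((pushforwardCompModulesSpecToSheafIso φ).app N))
    (fun {_ _} g => by
      rw [Functor.comp_map, Functor.comp_map]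
      exact congrArg (fun z => (TopCat.Sheaf.forget _ _ ⋙ (CategoryTheory.evaluation _ _).obj (.op ⊤)).map z)
        ((pushforwardCompModulesSpecToSheafIso φ).hom.naturality g))

/-- `(Spec φ)^* (M~) ≅ (S ⊗_R M)~`, naturally. -/
noncomputable def pullbackTildeIso :
    ModuleCat.extendScalars φ.hom ⋙ tilde.functor S ≅
      tilde.functor R ⋙ Scheme.Modules.pullback (Spec.map φ) :=
  Adjunction.leftAdjointUniq
    ((ModuleCat.extendRestrictScalarsAdj φ.hom).comp (tilde.adjunction (R := S)))
    ((tilde.adjunction.comp (Scheme.Modules.pullbackPushforwardAdjunction (Spec.map φ))).ofNatIsoRight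
      (pushforwardΓIso φ))

end Spec

end Groth.Agent.QCohLib
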