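import Mathlib.RingTheory.Support
import Groth.Prelude.Def_CohB1
import Groth.Prelude.Def_FlatMod2
import Groth.Agent.QCohLib.FiniteType

/-!
# Stalks of quasi-coherent modules and supports

* `mem_basicOpen_iff_notMem_primeIdealOf`;
* `exists_smul_eq_germ`, `germ_eq_zero_iff`, `isLocalizedModule_germ`: the stalk of a quasi-coherent
  module at `x ∈ U` affine is the localisation of `Γ(M, U)` at the prime of `x`;
* `mem_support_iff_mem_moduleSupport`; `isClosed_support` for finite type modules.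
-/

universe u

open CategoryTheory CategoryTheory.Limits AlgebraicGeometry TopologicalSpace Opposite SheafOfModules

set_option backward.isDefEq.respectTransparency false

namespace Groth.Agent.QCohLib

variable {X : Scheme.{u}} {M : X.Modules} {U : X.Opens}

theorem mem_basicOpen_iff_notMem_primeIdealOf (hU : IsAffineOpen U) {x : X} (hx : x ∈ U)
    (f : Γ(X, U)) : x ∈ X.basicOpen f ↔ f ∉ (hU.primeIdealOf ⟨x, hx⟩).asIdeal := by
  have h := congrArg (fun V : (Spec Γ(X, U)).Opens => hU.primeIdealOf ⟨x, hx⟩ ∈ V)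
    (hU.fromSpec_preimage_basicOpen f)
  change (hU.fromSpec (hU.primeIdealOf ⟨x, hx⟩) ∈ X.basicOpen f) = _ at h
  rw [hU.fromSpec_primeIdealOf] at h
  exact iff_of_eq h

theorem basicOpen_pow_succ (f : Γ(X, U)) (n : ℕ) : X.basicOpen (f ^ (n + 1)) = X.basicOpen f := by
  induction n with
  | zero => rw [pow_one]
  | succ n ih => rw [pow_succ, X.basicOpen_mul, ih, inf_idem]

theorem exists_smul_eq_germ [M.IsQuasicoherent] (hU : IsAffineOpen U) (x : X) (hx : x ∈ U)
    (m : M.presheaf.stalk x) :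
    ∃ (f : Γ(X, U)) (s : Γ(M, U)), x ∈ X.basicOpen f ∧
      X.presheaf.germ U x hx f • m = M.presheaf.germ U x hx s := by
  obtain ⟨V, hxV, t, rfl⟩ := M.presheaf.exists_germ_eq m
  obtain ⟨f, hfV, hxf⟩ := hU.exists_basicOpen_le ⟨x, hxV⟩ hx
  obtain ⟨n, y, hy⟩ := exists_res_eq_pow_smul hU f _ (X.basicOpen_le f) rfl
    (M.presheaf.map (homOfLE hfV).op t)
  refine ⟨f ^ (n + 1), f • y, by rwa [basicOpen_pow_succ], ?_⟩
  have h := congrArg (M.presheaf.germ (X.basicOpen f) x hxf) hy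
  rw [TopCat.Presheaf.germ_res_apply, germ_smul, TopCat.Presheaf.germ_res_apply,
    map_pow, TopCat.Presheaf.germ_res_apply] at h
  rw [germ_smul, h, map_pow, pow_succ', mul_smul]

theorem germ_eq_zero_iff [M.IsQuasicoherent] (hU : IsAffineOpen U) (x : X) (hx : x ∈ U)
    (s : Γ(M, U)) :
    M.presheaf.germ U x hx s = 0 ↔ ∃ f : Γ(X, U), x ∈ X.basicOpen f ∧ f • s = 0 := by
  refine ⟨fun h => ?_, fun ⟨f, hxf, hf⟩ => ?_⟩
  · obtain ⟨V, hxV, iV, iU, e⟩ := M.presheaf.germ_eq x hx hx s 0 (by rw [h, map_zero])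
    rw [map_zero] at e
    obtain ⟨f, hfV, hxf⟩ := hU.exists_basicOpen_le ⟨x, hxV⟩ hx
    obtain ⟨n, hn⟩ := exists_pow_smul_eq_zero hU f _ (X.basicOpen_le f) rfl s (by
      rw [← map_map M hfV iV.le s, show (homOfLE iV.le) = iV from Subsingleton.elim _ _, e,
        map_zero])
    exact ⟨f ^ (n + 1), by rwa [basicOpen_pow_succ], by rw [pow_succ', mul_smul, hn, smul_zero]⟩
  · have h := congrArg (M.presheaf.germ U x hx) hf
    rw [germ_smul, map_zero] at h
    exact ((X.mem_basicOpen f x hx).mp hxf).smul_eq_zero.mp h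

/-- The stalk as a module over the sections on an open neighbourhood. -/
@[reducible]
noncomputable def germModule (M : X.Modules) (x : X) (hx : x ∈ U) :
    Module Γ(X, U) (M.presheaf.stalk x) :=
  Module.compHom _ (X.presheaf.germ U x hx).hom

/-- The germ map as a linear map for `germModule`. -/
noncomputable def germLinearMap (M : X.Modules) (x : X) (hx : x ∈ U) :
    letI := germModule M x hx
    Γ(M, U) →ₗ[Γ(X, U)] M.presheaf.stalk x :=
  letI := germModule M x hx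
  { toFun := fun s => M.presheaf.germ U x hx s
    map_add' := map_add _
    map_smul' := fun r s => germ_smul U x hx r s }

/-- The stalk of a quasi-coherent module is the localisation of the sections on an affine open. -/
theorem isLocalizedModule_germ [M.IsQuasicoherent] (hU : IsAffineOpen U) (x : X) (hx : x ∈ U) :
    letI := germModule M x hx
    IsLocalizedModule (hU.primeIdealOf ⟨x, hx⟩).asIdeal.primeCompl (germLinearMap M x hx) := by
  let := germModule M x hx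
  have hsm : ∀ (r : Γ(X, U)) (a : M.presheaf.stalk x),
      r • a = X.presheaf.germ U x hx r • a := fun _ _ => rfl
  refine ⟨fun r => ?_, fun m => ?_, fun {a b} h => ?_⟩
  · have hu : IsUnit (X.presheaf.germ U x hx r.1) :=
      (X.mem_basicOpen r.1 x hx).mp ((mem_basicOpen_iff_notMem_primeIdealOf hU hx r.1).mpr r.2)
    rw [Module.End.isUnit_iff]
    refine ⟨fun a b hab => ?_, fun b => ?_⟩
    · rw [Module.algebraMap_end_apply, Module.algebraMap_end_apply, hsm, hsm] at hab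
      exact hu.smul_left_cancel.mp hab
    · obtain ⟨v, hv⟩ := hu
      refine ⟨(↑v⁻¹ : X.presheaf.stalk x) • b, ?_⟩
      rw [Module.algebraMap_end_apply, hsm, ← hv, smul_smul, Units.mul_inv, one_smul]
  · obtain ⟨f, s, hxf, hfs⟩ := exists_smul_eq_germ hU x hx m
    exact ⟨⟨s, f, (mem_basicOpen_iff_notMem_primeIdealOf hU hx f).mp hxf⟩, hfs⟩
  · obtain ⟨f, hxf, hf⟩ := (germ_eq_zero_iff hU x hx (a - b)).mp
      (by rw [map_sub, sub_eq_zero]; exact h)
    exact ⟨⟨f, (mem_basicOpen_iff_notMem_primeIdealOf hU hx f).mp hxf⟩,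
      sub_eq_zero.mp ((smul_sub f a b).symm.trans hf)⟩

theorem subsingleton_stalk_iff [M.IsQuasicoherent] (hU : IsAffineOpen U) (x : X) (hx : x ∈ U) :
    Subsingleton (M.presheaf.stalk x) ↔
      ∀ s : Γ(M, U), ∃ f : Γ(X, U), x ∈ X.basicOpen f ∧ f • s = 0 := by
  refine ⟨fun h s => (germ_eq_zero_iff hU x hx s).mp (Subsingleton.elim _ _), fun h => ?_⟩
  refine ⟨fun a b => sub_eq_zero.mp ?_⟩
  obtain ⟨f, s, hxf, hfs⟩ := exists_smul_eq_germ hU x hx (a - b)
  rw [(germ_eq_zero_iff hU x hx s).mpr (h s)] at hfs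
  exact ((X.mem_basicOpen f x hx).mp hxf).smul_eq_zero.mp hfs

theorem mem_support_iff_mem_moduleSupport [M.IsQuasicoherent] (hU : IsAffineOpen U) (x : X)
    (hx : x ∈ U) :
    x ∈ CohB1.support M ↔ hU.primeIdealOf ⟨x, hx⟩ ∈ Module.support Γ(X, U) Γ(M, U) := by
  rw [← not_iff_not]
  change ¬¬Subsingleton _ ↔ _
  rw [not_not, Module.notMem_support_iff', subsingleton_stalk_iff hU x hx]
  simp_rw [mem_basicOpen_iff_notMem_primeIdealOf hU hx]

/-- The structure sheaf as an object of `X.Modules`. -/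
noncomputable abbrev unitMod (X : Scheme.{u}) : X.Modules := unit X.ringCatSheaf

theorem unit_hom_app_eq_zero (φ : unitMod X ⟶ M) {V W : X.Opens} (h : W ≤ V)
    (hV : φ.app V (show Γ(X, V) from 1) = 0) (r : Γ(X, W)) :
    φ.app W r = 0 := by
  have h1 := app_map φ h (show Γ(X, V) from 1)
  rw [hV, map_zero] at h1
  have h2 := Scheme.Modules.Hom.app_smul φ r
    ((unitMod X).presheaf.map (homOfLE h).op (show Γ(X, V) from 1))
  rw [h1, smul_zero] at h2
  refine (congrArg (φ.app W) ?_).trans h2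
  change r = r * X.presheaf.map (homOfLE h).op 1
  rw [map_one, mul_one]

set_option maxHeartbeats 800000 in
/-- A finite type module vanishes near a point where its stalk vanishes. -/
theorem exists_nhds_subsingleton_stalk (hM : M.IsFiniteType) (x : X)
    (hx : Subsingleton (M.presheaf.stalk x)) :
    ∃ V : X.Opens, x ∈ V ∧ ∀ y ∈ V, Subsingleton (M.presheaf.stalk y) := by
  obtain ⟨ι, W, σ, hW, hσ⟩ := exists_cover_generatingSections hM
  obtain ⟨i, hi⟩ := hW x
  let N := M.restrict (W i).ι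
  let φ : (σ i).I → (unitMod (W i : Scheme.{u}) ⟶ N) := fun k => ιFree k ≫ (σ i).π
  have hzero : ∀ k, ∃ V : (W i : Scheme.{u}).Opens, (⟨x, hi⟩ : W i) ∈ V ∧
      (φ k).app V (show Γ((W i : Scheme.{u}), V) from 1) = 0 := by
    intro k
    let t : Γ(M, (W i).ι ''ᵁ ⊤) :=
      (φ k).app ⊤ (show Γ((W i : Scheme.{u}), ⊤) from 1)
    have hxt : x ∈ (W i).ι ''ᵁ ⊤ := ⟨⟨x, hi⟩, trivial, rfl⟩
    obtain ⟨V, hxV, iV, iU, e⟩ := M.presheaf.germ_eq x hxt hxt t 0 (Subsingleton.elim _ _)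
    rw [map_zero] at e
    refine ⟨(W i).ι ⁻¹ᵁ V, hxV, ?_⟩
    have h1 := app_map (φ k) (le_top : (W i).ι ⁻¹ᵁ V ≤ ⊤) (show Γ((W i : Scheme.{u}), ⊤) from 1)
    refine (congrArg ((φ k).app ((W i).ι ⁻¹ᵁ V)) ?_).trans (h1.trans ?_)
    · exact (map_one ((W i : Scheme.{u}).presheaf.map _).hom).symm
    · change M.presheaf.map (homOfLE ((W i).ι.image_mono le_top)).op t = 0
      rw [← map_map M ((W i).ι.image_preimage_le V) iV.le t,
        show (homOfLE iV.le) = iV from Subsingleton.elim _ _, e, map_zero]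
  choose V hxV hV using hzero
  have := hσ i
  let V₀ : (W i : Scheme.{u}).Opens :=
    ⟨⋂ k, (V k : Set (W i : Scheme.{u})), isOpen_iInter_of_finite fun k => (V k).2⟩
  have hxV₀ : (⟨x, hi⟩ : W i) ∈ V₀ := Set.mem_iInter.mpr hxV
  have hV₀ : ∀ k, V₀ ≤ V k := fun k => Set.iInter_subset (fun k => (V k : Set (W i : Scheme.{u}))) k
  let F := Scheme.Modules.restrictFunctor.{u} V₀.ι
  have : PreservesColimitsOfSize.{u, u} F := inferInstance
  have hπ : F.map (σ i).π = 0 := by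
    apply (isColimitOfPreserves F (isColimitFreeCofan (σ i).I)).hom_ext
    rintro ⟨k⟩
    rw [comp_zero]
    change F.map (ιFree k) ≫ F.map (σ i).π = 0
    rw [← F.map_comp]
    refine Scheme.Modules.hom_ext _ _ fun Q => ?_
    ext r
    refine unit_hom_app_eq_zero (φ k) (W := V₀.ι ''ᵁ Q) ?_ (hV k) r
    exact (V₀.ι_image_le Q).trans (hV₀ k)
  have : F.PreservesEpimorphisms :=
    Functor.preservesEpimorphisms_of_adjunction (Scheme.Modules.restrictAdjunction V₀.ι)
  have hepi : Epi (σ i).π := (σ i).epi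
  have : Epi (F.map (σ i).π) := F.map_epi _
  have hz : IsZero (F.obj N) := by
    rw [IsZero.iff_id_eq_zero, ← cancel_epi (F.map (σ i).π), hπ, zero_comp, zero_comp]
  have hsec : ∀ (Q : X.Opens), Q ≤ (W i).ι ''ᵁ V₀ → ∀ s : Γ(M, Q), s = 0 := by
    intro Q hQ s
    have hQ1 : Q ≤ (W i).ι ''ᵁ (V₀.ι ''ᵁ (V₀.ι ⁻¹ᵁ ((W i).ι ⁻¹ᵁ Q))) := by
      intro y hy
      obtain ⟨z, hz, rfl⟩ := hQ hy
      exact ⟨z, ⟨⟨z, hz⟩, hy, rfl⟩, rfl⟩
    have hQ2 : (W i).ι ''ᵁ (V₀.ι ''ᵁ (V₀.ι ⁻¹ᵁ ((W i).ι ⁻¹ᵁ Q))) ≤ Q :=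
      ((W i).ι.image_mono (V₀.ι.image_preimage_le _)).trans ((W i).ι.image_preimage_le _)
    let s' : Γ(F.obj N, V₀.ι ⁻¹ᵁ ((W i).ι ⁻¹ᵁ Q)) := M.presheaf.map (homOfLE hQ2).op s
    have h0 : s' = 0 := congrArg (fun q : F.obj N ⟶ F.obj N => q.app _ s') (hz.eq_of_src (𝟙 _) 0)
    have h1 := congrArg (M.presheaf.map (homOfLE hQ1).op) h0
    rw [map_zero] at h1
    rw [← map_self M le_rfl s, ← map_map M hQ1 hQ2 s]
    exact h1
  refine ⟨(W i).ι ''ᵁ V₀, ⟨⟨x, hi⟩, hxV₀, rfl⟩, fun y hy => ⟨fun a b => ?_⟩⟩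
  obtain ⟨Q, hyQ, t, ht⟩ := M.presheaf.exists_germ_eq (a - b)
  let Q' : X.Opens := Q ⊓ (W i).ι ''ᵁ V₀
  have hyQ' : y ∈ Q' := ⟨hyQ, hy⟩
  have h2 := TopCat.Presheaf.germ_res_apply M.presheaf
    (homOfLE inf_le_left : Q' ⟶ Q) y hyQ' t
  rw [hsec Q' inf_le_right (M.presheaf.map (homOfLE inf_le_left : Q' ⟶ Q).op t), map_zero] at h2
  exact sub_eq_zero.mp (ht.symm.trans h2.symm)

theorem isClosed_support (hM : M.IsFiniteType) : IsClosed (CohB1.support M) := by
  rw [← isOpen_compl_iff, isOpen_iff_forall_mem_open]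
  intro x hx
  obtain ⟨V, hxV, hV⟩ := exists_nhds_subsingleton_stalk hM x (not_not.mp hx)
  exact ⟨V, fun y hy => not_not.mpr (hV y hy), V.2, hxV⟩

end Groth.Agent.QCohLib
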