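import Groth.Agent.QCohLib.Cover

/-!
# Stalks of restrictions, kernels and cokernels

* `isZero_of_subsingleton_stalk`, `isZero_restrict_of_subsingleton_stalk`;
* `restrict_stalk_bijective` etc.: restriction to an open immersion and stalk maps;
* `stalk_kernel_exact`, `stalk_cokernel_exact`.
-/

universe u

open CategoryTheory CategoryTheory.Limits AlgebraicGeometry TopologicalSpace Opposite

set_option backward.isDefEq.respectTransparency false

namespace Groth.Agent.QCohLib

variable {X Y : Scheme.{u}} {M N : X.Modules}

theorem isZero_of_subsingleton_stalk (h : ∀ x : X, Subsingleton (M.presheaf.stalk x)) : IsZero M := by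
  rw [IsZero.iff_id_eq_zero]
  refine eq_of_stalkHom_eq _ _ fun x => ?_
  ext m
  exact @Subsingleton.elim _ (h x) _ _

theorem subsingleton_stalk_of_isZero (h : IsZero M) (x : X) : Subsingleton (M.presheaf.stalk x) := by
  refine ⟨fun a b => ?_⟩
  rw [← stalkHom_id x a, ← stalkHom_id x b, h.eq_of_src (𝟙 M) 0, stalkHom_zero, stalkHom_zero]

section Restrict

variable (f : Y ⟶ X) [IsOpenImmersion f]

/-- The stalk of a restriction. -/
noncomputable def restrictStalkIso (M : X.Modules) (y : Y) :
    ((Scheme.Modules.restrictFunctor f).obj M).presheaf.stalk y ≅ M.presheaf.stalk (f y) :=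
  (Scheme.Modules.restrictStalkNatIso f y).app M

theorem stalkHom_restrict (φ : M ⟶ N) (y : Y)
    (m : ((Scheme.Modules.restrictFunctor f).obj M).presheaf.stalk y) :
    (restrictStalkIso f N y).hom (stalkHom ((Scheme.Modules.restrictFunctor f).map φ) y m) =
      stalkHom φ (f y) ((restrictStalkIso f M y).hom m) :=
  ConcreteCategory.congr_hom ((Scheme.Modules.restrictStalkNatIso f y).hom.naturality φ) m

theorem restrictStalkIso_bijective (M : X.Modules) (y : Y) :
    Function.Bijective (restrictStalkIso f M y).hom :=
  ConcreteCategory.bijective_of_isIso _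

theorem subsingleton_restrict_stalk_iff (M : X.Modules) (y : Y) :
    Subsingleton (((Scheme.Modules.restrictFunctor f).obj M).presheaf.stalk y) ↔
      Subsingleton (M.presheaf.stalk (f y)) :=
  ⟨fun _ => (restrictStalkIso_bijective f M y).2.subsingleton,
    fun _ => (restrictStalkIso_bijective f M y).1.subsingleton⟩

theorem isZero_restrict_of_subsingleton_stalk (h : ∀ y : Y, Subsingleton (M.presheaf.stalk (f y))) :
    IsZero ((Scheme.Modules.restrictFunctor f).obj M) :=
  isZero_of_subsingleton_stalk fun y => (subsingleton_restrict_stalk_iff f M y).mpr (h y)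

theorem mono_restrict_of_stalk_injective (φ : M ⟶ N)
    (h : ∀ y : Y, Function.Injective (stalkHom φ (f y))) :
    Mono ((Scheme.Modules.restrictFunctor f).map φ) := by
  rw [mono_iff_stalk_injective]
  intro y a b hab
  refine (restrictStalkIso_bijective f M y).1 (h y ?_)
  rw [← stalkHom_restrict, ← stalkHom_restrict, hab]

theorem epi_restrict_of_stalk_surjective (φ : M ⟶ N)
    (h : ∀ y : Y, Function.Surjective (stalkHom φ (f y))) :
    Epi ((Scheme.Modules.restrictFunctor f).map φ) := by
  rw [epi_iff_stalk_surjective]
  intro y n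
  obtain ⟨b, hb⟩ := h y ((restrictStalkIso f N y).hom n)
  obtain ⟨a, rfl⟩ := (restrictStalkIso_bijective f M y).2 b
  exact ⟨a, (restrictStalkIso_bijective f N y).1 (by rw [stalkHom_restrict, hb])⟩

end Restrict

theorem stalk_kernel_exact (φ : M ⟶ N) (x : X) (m : M.presheaf.stalk x) :
    stalkHom φ x m = 0 ↔ ∃ c, stalkHom (kernel.ι φ) x c = m := by
  constructor
  · intro hm
    let S := ShortComplex.mk (kernel.ι φ) (Abelian.factorThruImage φ)
      (by rw [← cancel_mono (Abelian.image.ι φ), Category.assoc, Abelian.image.fac, kernel.condition,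
        zero_comp])
    have hS : S.ShortExact :=
      { exact := ShortComplex.exact_of_f_is_kernel _
          (isKernelOfComp (Abelian.image.ι φ) φ (kernelIsKernel φ) _ (Abelian.image.fac φ)) }
    refine (stalk_exact_of_shortExact hS x m).mp
      ((mono_iff_stalk_injective (Abelian.image.ι φ)).mp inferInstance x ?_)
    rw [← stalkHom_comp, Abelian.image.fac, hm, map_zero]
  · rintro ⟨c, rfl⟩
    rw [← stalkHom_comp, kernel.condition, stalkHom_zero]

theorem stalk_cokernel_exact (φ : M ⟶ N) (x : X) (n : N.presheaf.stalk x) :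
    stalkHom (cokernel.π φ) x n = 0 ↔ ∃ m, stalkHom φ x m = n := by
  constructor
  · intro hn
    let S := ShortComplex.mk (Abelian.image.ι φ) (cokernel.π φ) (kernel.condition _)
    have hS : S.ShortExact :=
      { exact := ShortComplex.exact_of_f_is_kernel _ (kernelIsKernel _) }
    obtain ⟨c, hc⟩ := (stalk_exact_of_shortExact hS x n).mp hn
    obtain ⟨m, rfl⟩ := (epi_iff_stalk_surjective (Abelian.factorThruImage φ)).mp inferInstance x c
    refine ⟨m, ?_⟩
    rw [← hc, ← stalkHom_comp]
    exact congrArg (fun q => stalkHom q x m) (Abelian.image.fac φ).symm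
  · rintro ⟨m, rfl⟩
    rw [← stalkHom_comp, cokernel.condition, stalkHom_zero]

end Groth.Agent.QCohLib
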