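import Groth.Agent.QCohLib.StalkLoc
import Groth.Agent.QCohLib.Coherent

/-!
# Testing maps on an affine cover; stalks of short exact sequences

* `epi_of_cover_surjective`, `mono_of_cover_injective`, `isIso_of_cover_bijective`;
* `stalk_exact_of_shortExact`, `support_eq_union_of_shortExact`;
* `isNoetherian_sections`, `subobject_chain_stabilizes`: ACC for quasi-coherent submodules.
-/

universe u

open CategoryTheory CategoryTheory.Limits AlgebraicGeometry TopologicalSpace Opposite

set_option backward.isDefEq.respectTransparency false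

namespace Groth.Agent.QCohLib

variable {X : Scheme.{u}} {M N : X.Modules}

theorem stalkHom_smul (φ : M ⟶ N) (x : X) (r : X.presheaf.stalk x) (m : M.presheaf.stalk x) :
    stalkHom φ x (r • m) = r • stalkHom φ x m :=
  (stalkLinearMap φ x).map_smul r m

theorem stalk_surjective_of_app_surjective [N.IsQuasicoherent] (φ : M ⟶ N) {U : X.Opens}
    (hU : IsAffineOpen U) (h : Function.Surjective (φ.app U)) (x : X) (hx : x ∈ U) :
    Function.Surjective (stalkHom φ x) := by
  intro m
  obtain ⟨f, s, hxf, hfs⟩ := exists_smul_eq_germ hU x hx m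
  obtain ⟨t, rfl⟩ := h s
  obtain ⟨v, hv⟩ := (X.mem_basicOpen f x hx).mp hxf
  refine ⟨(↑v⁻¹ : X.presheaf.stalk x) • M.presheaf.germ U x hx t, ?_⟩
  rw [stalkHom_smul, stalkHom_germ, ← hfs, ← hv, smul_smul, Units.inv_mul, one_smul]

theorem stalk_injective_of_app_injective [M.IsQuasicoherent] (φ : M ⟶ N) [N.IsQuasicoherent]
    {U : X.Opens} (hU : IsAffineOpen U) (h : Function.Injective (φ.app U)) (x : X) (hx : x ∈ U) :
    Function.Injective (stalkHom φ x) := by
  intro a b hab
  rw [← sub_eq_zero]
  obtain ⟨f, s, hxf, hfs⟩ := exists_smul_eq_germ hU x hx (a - b)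
  have h1 : N.presheaf.germ U x hx (φ.app U s) = 0 := by
    rw [← stalkHom_germ, ← hfs, stalkHom_smul, map_sub, hab, sub_self, smul_zero]
  obtain ⟨g, hxg, hg⟩ := (germ_eq_zero_iff hU x hx _).mp h1
  have h2 : g • s = 0 := h (by rw [Scheme.Modules.Hom.app_smul, hg, map_zero])
  rw [(germ_eq_zero_iff hU x hx s).mpr ⟨g, hxg, h2⟩] at hfs
  exact ((X.mem_basicOpen f x hx).mp hxf).smul_eq_zero.mp hfs

section Cover

variable {ι : Type*} (W : ι → X.Opens) (hW : ∀ i, IsAffineOpen (W i)) (hcov : ∀ x, ∃ i, x ∈ W i)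

include hW hcov in
theorem epi_of_cover_surjective [N.IsQuasicoherent] (φ : M ⟶ N)
    (h : ∀ i, Function.Surjective (φ.app (W i))) : Epi φ :=
  (epi_iff_stalk_surjective φ).mpr fun x =>
    let ⟨i, hi⟩ := hcov x
    stalk_surjective_of_app_surjective φ (hW i) (h i) x hi

include hW hcov in
theorem mono_of_cover_injective [M.IsQuasicoherent] [N.IsQuasicoherent] (φ : M ⟶ N)
    (h : ∀ i, Function.Injective (φ.app (W i))) : Mono φ :=
  (mono_iff_stalk_injective φ).mpr fun x =>
    let ⟨i, hi⟩ := hcov x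
    stalk_injective_of_app_injective φ (hW i) (h i) x hi

include hW hcov in
theorem isIso_of_cover_bijective [M.IsQuasicoherent] [N.IsQuasicoherent] (φ : M ⟶ N)
    (h : ∀ i, Function.Bijective (φ.app (W i))) : IsIso φ := by
  have := mono_of_cover_injective W hW hcov φ fun i => (h i).1
  have := epi_of_cover_surjective W hW hcov φ fun i => (h i).2
  exact isIso_of_mono_of_epi φ

end Cover

theorem stalk_exact_of_shortExact {S : ShortComplex X.Modules} (hS : S.ShortExact) (x : X)
    (m : S.X₂.presheaf.stalk x) :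
    stalkHom S.g x m = 0 ↔ ∃ c, stalkHom S.f x c = m := by
  constructor
  · intro h
    obtain ⟨U, hxU, s, rfl⟩ := S.X₂.presheaf.exists_germ_eq m
    rw [stalkHom_germ] at h
    obtain ⟨V, hxV, iV, iV', e⟩ := S.X₃.presheaf.germ_eq x hxU hxU _ 0 (by rw [h, map_zero])
    rw [map_zero] at e
    obtain ⟨c, hc⟩ := (sections_exact_of_shortExact hS V).2 (S.X₂.presheaf.map (homOfLE iV.le).op s)
      (by rw [app_map]; exact e)
    refine ⟨S.X₁.presheaf.germ V x hxV c, ?_⟩
    rw [stalkHom_germ, hc, TopCat.Presheaf.germ_res_apply]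
  · rintro ⟨c, rfl⟩
    rw [← stalkHom_comp, S.zero, stalkHom_zero]

theorem support_eq_union_of_shortExact {S : ShortComplex X.Modules} (hS : S.ShortExact) :
    CohB1.support S.X₂ = CohB1.support S.X₁ ∪ CohB1.support S.X₃ := by
  have hm := (mono_iff_stalk_injective S.f).mp hS.mono_f
  have he := (epi_iff_stalk_surjective S.g).mp hS.epi_g
  ext x
  change ¬ Subsingleton _ ↔ ¬ Subsingleton _ ∨ ¬ Subsingleton _
  rw [← not_and_or, not_iff_not]
  refine ⟨fun h => ⟨(hm x).subsingleton, (he x).subsingleton⟩, fun ⟨h₁, h₃⟩ => ⟨fun a b => ?_⟩⟩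
  obtain ⟨c, hc⟩ := (stalk_exact_of_shortExact hS x (a - b)).mp (Subsingleton.elim _ _)
  rw [← sub_eq_zero, ← hc, Subsingleton.elim c 0, map_zero]

/-- On a Noetherian scheme, quasi-coherent submodules of a coherent module satisfy ACC. -/
theorem subobject_chain_stabilizes [IsNoetherian X] (hM : Coh.IsCoh M) (F : ℕ →o Subobject M)
    (hF : ∀ n, ((F n : Subobject M) : X.Modules).IsQuasicoherent) :
    ∃ n : ℕ, ∀ m : ℕ, n ≤ m → F m = F n := by
  obtain ⟨κ, _, W, hW, -, hsup⟩ :=
    exists_finite_affine_cover (X := X) (U := ⊤) CompactSpace.isCompact_univ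
  have hcov : ∀ x, ∃ a, x ∈ W a := fun x => Opens.mem_iSup.mp (hsup (Opens.mem_top x))
  let S (a : κ) : ℕ →o Submodule Γ(X, W a) Γ(M, W a) :=
    { toFun := fun n => LinearMap.range (appLinearMap (F n).arrow (W a))
      monotone' := fun n m hnm => by
        rintro _ ⟨z, rfl⟩
        refine ⟨(Subobject.ofLE _ _ (F.monotone hnm)).app (W a) z, ?_⟩
        rw [appLinearMap_apply, appLinearMap_apply, ← CategoryTheory.comp_apply,
          ← Scheme.Modules.Hom.comp_app, Subobject.ofLE_arrow] }
  have hstab : ∀ a, ∃ n, ∀ m, n ≤ m → S a n = S a m := fun a => by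
    have := IsLocallyNoetherian.component_noetherian (X := X) ⟨W a, hW a⟩
    have := (isCoh_iff.mp hM).2 ⟨W a, hW a⟩
    have := isNoetherian_of_isNoetherianRing_of_finite Γ(X, W a) Γ(M, W a)
    exact monotone_stabilizes_iff_noetherian.mpr this (S a)
  choose n hn using hstab
  refine ⟨Finset.univ.sup n, fun m hm => le_antisymm ?_ (F.monotone hm)⟩
  let j := Subobject.ofLE _ _ (F.monotone hm)
  have hj : j ≫ (F m).arrow = (F (Finset.univ.sup n)).arrow := Subobject.ofLE_arrow _
  have := hF m
  have : Epi j := epi_of_cover_surjective W hW hcov j fun a z => by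
    have h1 : (F m).arrow.app (W a) z ∈ S a m := ⟨z, rfl⟩
    rw [← hn a m ((Finset.le_sup (Finset.mem_univ a)).trans hm),
      hn a _ (Finset.le_sup (Finset.mem_univ a))] at h1
    obtain ⟨y, hy⟩ := h1
    refine ⟨y, (mono_iff_app_injective (F m).arrow).mp inferInstance (W a) ?_⟩
    rw [← CategoryTheory.comp_apply, ← Scheme.Modules.Hom.comp_app, hj]
    exact hy
  have : Mono j := mono_of_mono_fac hj
  have : IsIso j := isIso_of_mono_of_epi j
  exact Subobject.le_of_comm (inv j) (by rw [IsIso.inv_comp_eq, hj])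

/-- Sections of a kernel. -/
theorem exists_kernel_app_eq (φ : M ⟶ N) (V : X.Opens) (s : Γ(M, V)) :
    φ.app V s = 0 ↔ ∃ c, (kernel.ι φ).app V c = s := by
  constructor
  · intro hs
    have : Epi (Abelian.factorThruImage φ) := inferInstance
    let S := ShortComplex.mk (kernel.ι φ) (Abelian.factorThruImage φ)
      (by rw [← cancel_mono (Abelian.image.ι φ), Category.assoc, Abelian.image.fac, kernel.condition,
        zero_comp])
    have hS : S.ShortExact :=
      { exact := by
          refine ShortComplex.exact_of_f_is_kernel _ ?_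
          exact isKernelOfComp (Abelian.image.ι φ) φ
            (kernelIsKernel φ) _ (Abelian.image.fac φ) }
    refine (sections_exact_of_shortExact hS V).2 s ?_
    apply (mono_iff_app_injective (Abelian.image.ι φ)).mp inferInstance V
    rw [← CategoryTheory.comp_apply, ← Scheme.Modules.Hom.comp_app, map_zero]
    exact (congrArg (fun q : M ⟶ N => q.app V s) (Abelian.image.fac φ)).trans hs
  · rintro ⟨c, rfl⟩
    rw [← CategoryTheory.comp_apply, ← Scheme.Modules.Hom.comp_app, kernel.condition]
    rfl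

end Groth.Agent.QCohLib
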