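import Mathlib.AlgebraicGeometry.Noetherian
import Groth.Agent.QCohLib.Cover

/-!
# Biproducts and fibre products of quasi-coherent modules

* `isQuasicoherent_biprod`, `isCoh_biprod`, `isQuasicoherent_pullback_limit`, `isCoh_pullback_limit`;
* `exists_coherent_roof`: two coherent modules isomorphic on an open are related by a coherent roof.
-/

universe u

open CategoryTheory CategoryTheory.Limits AlgebraicGeometry TopologicalSpace Opposite

set_option backward.isDefEq.respectTransparency false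

namespace Groth.Agent.QCohLib

variable {X : Scheme.{u}} {M N P : X.Modules}

theorem isQuasicoherent_biprod [M.IsQuasicoherent] [N.IsQuasicoherent] :
    (M ⊞ N).IsQuasicoherent := by
  let S := ShortComplex.mk (biprod.inl : M ⟶ M ⊞ N) biprod.snd biprod.inl_snd
  have hS : S.ShortExact := (ShortComplex.Splitting.ofHasBinaryBiproduct M N).shortExact
  have : S.X₁.IsQuasicoherent := ‹M.IsQuasicoherent›
  have : S.X₃.IsQuasicoherent := ‹N.IsQuasicoherent›
  exact isQuasicoherent_of_extension S hS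

theorem isCoh_biprod [IsLocallyNoetherian X] (hM : Coh.IsCoh M) (hN : Coh.IsCoh N) :
    Coh.IsCoh (M ⊞ N) :=
  isCoh_of_extension _ (ShortComplex.Splitting.ofHasBinaryBiproduct M N).shortExact hM hN

theorem isQuasicoherent_pullback_limit [M.IsQuasicoherent] [N.IsQuasicoherent] [P.IsQuasicoherent]
    (f : M ⟶ P) (g : N ⟶ P) : (pullback f g).IsQuasicoherent := by
  have := isQuasicoherent_biprod (M := M) (N := N)
  have := isQuasicoherent_kernel (biprod.desc f (-g))
  let i : kernel (biprod.desc f (-g)) ≅ pullback f g :=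
    (kernelIsKernel (biprod.desc f (-g))).conePointUniqueUpToIso
      (Abelian.PullbackToBiproductIsKernel.isLimitPullbackToBiproduct f g)
  exact isQuasicoherent_of_iso i

theorem mono_pullbackToBiproduct (f : M ⟶ P) (g : N ⟶ P) :
    Mono (biprod.lift (pullback.fst f g) (pullback.snd f g)) :=
  mono_of_isLimit_fork (Abelian.PullbackToBiproductIsKernel.isLimitPullbackToBiproduct f g)

theorem isCoh_pullback_limit [IsLocallyNoetherian X] [P.IsQuasicoherent] (f : M ⟶ P) (g : N ⟶ P)
    (hM : Coh.IsCoh M) (hN : Coh.IsCoh N) : Coh.IsCoh (pullback f g) :=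
  have := hM.1
  have := hN.1
  have := mono_pullbackToBiproduct f g
  isCoh_of_mono (biprod.lift (pullback.fst f g) (pullback.snd f g)) (isCoh_biprod hM hN)
    (isQuasicoherent_pullback_limit f g)

theorem exists_coherent_roof [IsLocallyNoetherian X] (U : X.Opens) [QuasiCompact U.ι]
    (F₁ F₂ : X.Modules) (h₁ : Coh.IsCoh F₁) (h₂ : Coh.IsCoh F₂)
    (e : F₁.restrict U.ι ≅ F₂.restrict U.ι) :
    ∃ (G : X.Modules) (p₁ : G ⟶ F₁) (p₂ : G ⟶ F₂), Coh.IsCoh G ∧
      IsIso ((Scheme.Modules.restrictFunctor U.ι).map p₁) ∧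
      IsIso ((Scheme.Modules.restrictFunctor U.ι).map p₂) := by
  let adj := Scheme.Modules.restrictAdjunction U.ι
  let F := Scheme.Modules.restrictFunctor U.ι
  have := h₂.1
  have hQ : ((Scheme.Modules.pushforward U.ι).obj (F₂.restrict U.ι)).IsQuasicoherent :=
    isQuasicoherent_pushforward U.ι
  let φ₁ : F₁ ⟶ (Scheme.Modules.pushforward U.ι).obj (F₂.restrict U.ι) :=
    adj.homEquiv _ _ e.hom
  let φ₂ : F₂ ⟶ (Scheme.Modules.pushforward U.ι).obj (F₂.restrict U.ι) := adj.unit.app F₂
  have hi : ∀ {A : X.Modules} (φ : A ⟶ (Scheme.Modules.pushforward U.ι).obj (F₂.restrict U.ι)),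
      IsIso ((adj.homEquiv _ _).symm φ) → IsIso (F.map φ) := by
    intro A φ h
    rw [Adjunction.homEquiv_counit] at h
    exact IsIso.of_isIso_comp_right (F.map φ) (adj.counit.app (F₂.restrict U.ι))
  have hi₁ : IsIso (F.map φ₁) := hi φ₁ (by rw [Equiv.symm_apply_apply]; infer_instance)
  have hi₂ : IsIso (F.map φ₂) := hi φ₂ (by
    change IsIso ((adj.homEquiv _ _).symm (adj.unit.app F₂))
    rw [Adjunction.homEquiv_counit]
    erw [adj.left_triangle_components F₂]
    infer_instance)
  refine ⟨pullback φ₁ φ₂, pullback.fst φ₁ φ₂, pullback.snd φ₁ φ₂,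
    isCoh_pullback_limit φ₁ φ₂ h₁ h₂, ?_, ?_⟩
  · exact ((IsPullback.of_hasPullback φ₁ φ₂).map F).isIso_fst_of_isIso
  · exact ((IsPullback.of_hasPullback φ₁ φ₂).map F).isIso_snd_of_isIso

end Groth.Agent.QCohLib
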