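import Mathlib.CategoryTheory.Subobject.NoetherianObject
import Groth.Prelude.Def_QCohCat
import Groth.Agent.QCohLib.Cover

/-!
# Noetherian objects of the category of quasi-coherent modules

`isNoetherianObject_qcoh_iff`.
-/

universe u

open CategoryTheory CategoryTheory.Limits AlgebraicGeometry TopologicalSpace Opposite

set_option backward.isDefEq.respectTransparency false

namespace Groth.Agent.QCohLib

variable {X : Scheme.{u}}

theorem mono_hom_of_mono {A B : QCohCat.QCoh X} (φ : A ⟶ B) [Mono φ] : Mono φ.hom := by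
  have : A.obj.IsQuasicoherent := A.property
  have : B.obj.IsQuasicoherent := B.property
  let K : QCohCat.QCoh X := ⟨kernel φ.hom, isQuasicoherent_kernel φ.hom⟩
  let ι : K ⟶ A := ObjectProperty.homMk (kernel.ι φ.hom)
  have h : ι = 0 := by
    rw [← cancel_mono φ, zero_comp]
    exact ObjectProperty.hom_ext _ (kernel.condition φ.hom)
  exact Preadditive.mono_of_kernel_zero (congrArg InducedCategory.Hom.hom h)

variable (M : QCohCat.QCoh X)

theorem isNoetherianObject_qcoh_of_isCoh [IsNoetherian X] (hM : Coh.IsCoh M.obj) :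
    IsNoetherianObject M := by
  rw [isNoetherianObject_iff_monotone_chain_condition]
  intro F
  have hmono : ∀ n, Mono (F n).arrow.hom := fun n => mono_hom_of_mono _
  let G : ℕ →o Subobject M.obj :=
    { toFun := fun n => Subobject.mk (F n).arrow.hom
      monotone' := fun n m hnm =>
        Subobject.mk_le_mk_of_comm (Subobject.ofLE _ _ (F.monotone hnm)).hom
          (congrArg InducedCategory.Hom.hom (Subobject.ofLE_arrow (F.monotone hnm))) }
  obtain ⟨n, hn⟩ := subobject_chain_stabilizes hM G fun n =>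
    have : ((F n : Subobject M) : QCohCat.QCoh X).obj.IsQuasicoherent :=
      ((F n : Subobject M) : QCohCat.QCoh X).property
    isQuasicoherent_of_iso (Subobject.underlyingIso (F n).arrow.hom).symm
  refine ⟨n, fun m hm => ?_⟩
  let e := Subobject.isoOfMkEqMk _ _ (hn m hm).symm
  refine Subobject.eq_of_comm (ObjectProperty.isoMk _ e) ?_
  refine ObjectProperty.hom_ext _ ?_
  change e.hom ≫ (F m).arrow.hom = (F n).arrow.hom
  exact Subobject.ofMkLEMk_comp _

variable {M}

/-- The quotient object by a submodule. -/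
noncomputable abbrev quotObj {R : CommRingCat.{u}} (A : ModuleCat.{u} R) (P : Submodule R A) :
    ModuleCat.{u} R :=
  ModuleCat.of R (A ⧸ P)

/-- The projection to `quotObj`. -/
noncomputable def quotMap {R : CommRingCat.{u}} (A : ModuleCat.{u} R) (P : Submodule R A) :
    A ⟶ quotObj A P :=
  ModuleCat.ofHom P.mkQ

theorem quotMap_eq_zero_iff {R : CommRingCat.{u}} (A : ModuleCat.{u} R) (P : Submodule R A) (z : A) :
    quotMap A P z = 0 ↔ z ∈ P :=
  Submodule.Quotient.mk_eq_zero P

theorem quotMap_comp_factor {R : CommRingCat.{u}} (A : ModuleCat.{u} R) {P Q : Submodule R A}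
    (h : P ≤ Q) : quotMap A P ≫ ModuleCat.ofHom (Submodule.factor h) = quotMap A Q := rfl

/-- `L ≅ Γ(L)~ → (Γ(L)/P)~`. -/
noncomputable def truncSpec {R : CommRingCat.{u}} (L : (Spec R).Modules) [L.IsQuasicoherent]
    (P : Submodule R (ΓR L)) : L ⟶ (tilde.functor R).obj (quotObj (ΓR L) P) :=
  (counitIso L).inv ≫ (tilde.functor R).map (quotMap (ΓR L) P)

theorem Γ_map_truncSpec {R : CommRingCat.{u}} (L : (Spec R).Modules) [L.IsQuasicoherent]
    (P : Submodule R (ΓR L)) :
    (moduleSpecΓFunctor (R := R)).map (truncSpec L P) =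
      quotMap (ΓR L) P ≫ (tilde.isoTop (quotObj (ΓR L) P)).hom := by
  have h1 : moduleSpecΓFunctor.map (counitIso L).inv = (tilde.isoTop (ΓR L)).hom := by
    rw [← cancel_mono (moduleSpecΓFunctor.map (counitIso L).hom),
      ← Functor.map_comp, Iso.inv_hom_id, CategoryTheory.Functor.map_id]
    exact ((tilde.adjunction (R := R)).right_triangle_components L).symm
  rw [truncSpec, Functor.map_comp, h1]
  exact tilde.toOpen_map_app _ _

theorem truncSpec_app_eq_zero_iff {R : CommRingCat.{u}} (L : (Spec R).Modules) [L.IsQuasicoherent]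
    (P : Submodule R (ΓR L)) (z : ΓR L) : (truncSpec L P).app ⊤ z = 0 ↔ z ∈ P := by
  have h2 : (truncSpec L P).app ⊤ z =
      (tilde.isoTop (quotObj (ΓR L) P)).hom (quotMap (ΓR L) P z) :=
    ConcreteCategory.congr_hom (Γ_map_truncSpec L P) z
  rw [h2, ← quotMap_eq_zero_iff]
  refine ⟨fun h => ?_, fun h => ?_⟩
  · exact (tilde.isoTop (quotObj (ΓR L) P)).toLinearEquiv.injective (h.trans (map_zero _).symm)
  · rw [h]; exact map_zero _

/-- The largest quasi-coherent submodule with sections in `P` over `U`: kernel of the map to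
`j_*((Γ(M,U)/P)~)`. -/
noncomputable def truncMap {U : X.Opens} (hU : IsAffineOpen U) (N : X.Modules)
    [N.IsQuasicoherent] (P : Submodule Γ(X, U) ↑(ΓR (R := Γ(X, U)) (onSpec N hU))) :
    N ⟶ (Scheme.Modules.pushforward hU.fromSpec).obj
      ((tilde.functor Γ(X, U)).obj (quotObj (ΓR (onSpec N hU)) P)) :=
  (Scheme.Modules.restrictAdjunction hU.fromSpec).homEquiv _ _ (truncSpec (onSpec N hU) P)

theorem truncMap_app_eq_zero_iff {U : X.Opens} (hU : IsAffineOpen U) (N : X.Modules)
    [N.IsQuasicoherent] (P : Submodule Γ(X, U) ↑(ΓR (R := Γ(X, U)) (onSpec N hU))) (s : Γ(N, U)) :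
    (truncMap hU N P).app U s = 0 ↔ (onSpecΓ N hU).symm s ∈ P := by
  let ψ := truncSpec (onSpec N hU) P
  let K := (tilde.functor Γ(X, U)).obj (quotObj (ΓR (onSpec N hU)) P)
  let y : Γ(onSpec N hU, ⊤) := (onSpecΓ N hU).symm s
  rw [← truncSpec_app_eq_zero_iff (onSpec N hU) P]
  have hT : (⊤ : (Spec Γ(X, U)).Opens) ≤ hU.fromSpec ⁻¹ᵁ U := hU.fromSpec_preimage_self.ge
  have h3 : (truncMap hU N P).app U s =
      ψ.app (hU.fromSpec ⁻¹ᵁ U)
        (N.presheaf.map (homOfLE (hU.fromSpec.image_preimage_le U)).op s) := by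
    rw [truncMap, Adjunction.homEquiv_unit]
    rfl
  have h4 : ψ.app ⊤ y = K.presheaf.map (homOfLE hT).op
      (ψ.app (hU.fromSpec ⁻¹ᵁ U)
        (N.presheaf.map (homOfLE (hU.fromSpec.image_preimage_le U)).op s)) := by
    refine Eq.trans ?_ (app_map ψ hT _)
    refine congrArg (fun z => (ConcreteCategory.hom (ψ.app ⊤)) z) ?_
    exact (map_map N (hU.fromSpec.image_mono hT) (hU.fromSpec.image_preimage_le U) s).symm
  refine ⟨fun h => ?_, fun h => ?_⟩
  · refine h4.trans ?_
    rw [← h3]
    exact (congrArg (K.presheaf.map (homOfLE hT).op) h).trans (map_zero _)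
  · rw [h3]
    have h5 := congrArg (K.presheaf.map
      (homOfLE (le_top : hU.fromSpec ⁻¹ᵁ U ≤ ⊤)).op) (h4.symm.trans h)
    rwa [map_map, map_self, map_zero] at h5

theorem isCoh_of_isNoetherianObject_qcoh [IsNoetherian X] [IsNoetherianObject M] :
    Coh.IsCoh M.obj := by
  have hM : M.obj.IsQuasicoherent := M.property
  refine isCoh_iff.mpr ⟨hM, fun U => ?_⟩
  suffices _root_.IsNoetherian Γ(X, U.1) (ΓR (onSpec M.obj U.2)) from
    Module.Finite.equiv (onSpecΓ M.obj U.2)
  rw [← monotone_stabilizes_iff_noetherian]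
  intro P
  have hQ : ∀ n, ((Scheme.Modules.pushforward U.2.fromSpec).obj
      ((tilde.functor Γ(X, U.1)).obj
        (quotObj (ΓR (onSpec M.obj U.2)) (P n)))).IsQuasicoherent := fun n =>
    have := isQuasicoherent_tilde_obj (quotObj (ΓR (onSpec M.obj U.2)) (P n))
    isQuasicoherent_pushforward U.2.fromSpec
  let K : ℕ → QCohCat.QCoh X := fun n =>
    ⟨kernel (truncMap U.2 M.obj (P n)), have := hQ n; isQuasicoherent_kernel _⟩
  let i : ∀ n, K n ⟶ M := fun n => ObjectProperty.homMk (kernel.ι (truncMap U.2 M.obj (P n)))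
  have : ∀ n, Mono (i n) := fun n => (QCohCat.isQCoh X).ι.mono_of_mono_map
    (inferInstanceAs (Mono (kernel.ι (truncMap U.2 M.obj (P n)))))
  have hfac : ∀ n m, n ≤ m → kernel.ι (truncMap U.2 M.obj (P n)) ≫ truncMap U.2 M.obj (P m) = 0 := by
    intro n m hnm
    let q : (tilde.functor Γ(X, U.1)).obj (quotObj (ΓR (onSpec M.obj U.2)) (P n)) ⟶
        (tilde.functor Γ(X, U.1)).obj (quotObj (ΓR (onSpec M.obj U.2)) (P m)) :=
      (tilde.functor Γ(X, U.1)).map (ModuleCat.ofHom (Submodule.factor (P.monotone hnm)))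
    have : truncMap U.2 M.obj (P m) =
        truncMap U.2 M.obj (P n) ≫ (Scheme.Modules.pushforward U.2.fromSpec).map q := by
      rw [truncMap, truncMap, ← Adjunction.homEquiv_naturality_right, truncSpec, truncSpec,
        Category.assoc, ← Functor.map_comp, quotMap_comp_factor]
    rw [this, kernel.condition_assoc, zero_comp]
  let G : ℕ →o Subobject M :=
    { toFun := fun n => Subobject.mk (i n)
      monotone' := fun n m hnm => Subobject.mk_le_mk_of_comm
        (ObjectProperty.homMk (kernel.lift _ (kernel.ι _) (hfac n m hnm)))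
        (ObjectProperty.hom_ext _ (kernel.lift_ι _ _ _)) }
  obtain ⟨n, hn⟩ := monotone_chain_condition_of_isNoetherianObject G
  refine ⟨n, fun m hm => le_antisymm (P.monotone hm) fun y hy => ?_⟩
  let s := onSpecΓ M.obj U.2 y
  obtain ⟨c, hc⟩ := (exists_kernel_app_eq (truncMap U.2 M.obj (P m)) U.1 s).mp
    ((truncMap_app_eq_zero_iff U.2 M.obj (P m) s).mpr (by simpa [s] using hy))
  let e := Subobject.isoOfMkEqMk _ _ (hn m hm).symm
  have he : e.hom.hom ≫ kernel.ι (truncMap U.2 M.obj (P n)) =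
      kernel.ι (truncMap U.2 M.obj (P m)) :=
    congrArg InducedCategory.Hom.hom (Subobject.ofMkLEMk_comp (f := i m) (g := i n) _)
  have h6 : (truncMap U.2 M.obj (P n)).app U.1 s = 0 := by
    refine (exists_kernel_app_eq _ _ _).mpr ⟨e.hom.hom.app U.1 c, ?_⟩
    rw [← CategoryTheory.comp_apply, ← Scheme.Modules.Hom.comp_app, he, hc]
  simpa [s] using (truncMap_app_eq_zero_iff U.2 M.obj (P n) s).mp h6

theorem isNoetherianObject_qcoh_iff [IsNoetherian X] :
    IsNoetherianObject M ↔ Coh.IsCoh M.obj :=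
  ⟨fun _ => isCoh_of_isNoetherianObject_qcoh, isNoetherianObject_qcoh_of_isCoh M⟩

end Groth.Agent.QCohLib
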