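import Groth.Agent.QCohLib.StalkRestrict
import Groth.Agent.QCohLib.Coherent

/-!
# Coherence is local; modules supported in a closed subset of an open

* `isCoh_of_isZero`, `isCoh_of_cover`;
* `isCoh_pushforward_of_support_subset`.
-/

universe u

open CategoryTheory CategoryTheory.Limits AlgebraicGeometry TopologicalSpace Opposite SheafOfModules

set_option backward.isDefEq.respectTransparency false

namespace Groth.Agent.QCohLib

variable {X : Scheme.{u}} {M : X.Modules}

theorem subsingleton_sections_of_isZero (h : IsZero M) (V : X.Opens) : Subsingleton Γ(M, V) :=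
  ⟨fun a b => (congrArg (fun q : M ⟶ M => q.app V a) (h.eq_of_src (𝟙 M) 0)).trans
    (congrArg (fun q : M ⟶ M => q.app V b) (h.eq_of_src (𝟙 M) 0)).symm⟩

theorem isQuasicoherent_of_isZero (h : IsZero M) : M.IsQuasicoherent := by
  rw [isQuasicoherent_iff_affine]
  intro U
  let M₀ : ModuleCat.{u} Γ(X, U.1) := ModuleCat.of Γ(X, U.1) PUnit.{u+1}
  have : ((tilde.functor Γ(X, U.1)).obj M₀).IsQuasicoherent := inferInstanceAs (tilde M₀).IsQuasicoherent
  exact isQuasicoherent_of_iso
    (((tilde.functor Γ(X, U.1)).map_isZero (ModuleCat.isZero_of_subsingleton M₀)).iso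
      ((Scheme.Modules.restrictFunctor U.2.fromSpec).map_isZero h))

theorem isCoh_of_isZero (h : IsZero M) : Coh.IsCoh M :=
  isCoh_iff.mpr ⟨isQuasicoherent_of_isZero h, fun U =>
    have := subsingleton_sections_of_isZero h U.1
    inferInstance⟩

theorem isCoh_of_cover {ι : Type u} {Y : ι → Scheme.{u}} (j : ∀ i, Y i ⟶ X)
    [∀ i, IsOpenImmersion (j i)] (hj : ∀ x : X, ∃ i, x ∈ (j i).opensRange)
    (h : ∀ i, Coh.IsCoh (M.restrict (j i))) : Coh.IsCoh M := by
  refine ⟨isQuasicoherent_of_cover j hj fun i => (h i).1, ?_⟩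
  choose κ U σ hU hσ using fun i => exists_cover_generatingSections (h i).2
  refine isFiniteType_of_cover (ι := Σ i, κ i) (fun a => (U a.1 a.2).ι ≫ j a.1) (fun x => ?_)
    (fun a => (σ a.1 a.2).ofEpi
      (restrictCompIso M (U a.1 a.2).ι (j a.1) ((U a.1 a.2).ι ≫ j a.1) rfl).hom) fun a => ?_
  · obtain ⟨i, z, rfl⟩ := hj x
    obtain ⟨k, hk⟩ := hU i z
    exact ⟨⟨i, k⟩, ⟨⟨z, hk⟩, rfl⟩⟩
  · have := hσ a.1 a.2
    exact ⟨inferInstanceAs (Finite (σ a.1 a.2).I)⟩

/-- A coherent module on an open, supported in a subset closed in the ambient scheme, pushes forward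
to a coherent module. -/
theorem isCoh_pushforward_of_support_subset {U : Scheme.{u}} (j : U ⟶ X) [IsOpenImmersion j]
    (T : Set X) (hT : IsClosed T) (hTU : T ⊆ Set.range j.base) (F : U.Modules) (hF : Coh.IsCoh F)
    (hs : ∀ x : U, x ∈ CohB1.support F → j x ∈ T) :
    Coh.IsCoh ((Scheme.Modules.pushforward j).obj F) := by
  let W : X.Opens := ⟨Tᶜ, hT.isOpen_compl⟩
  let J : ∀ b : ULift.{u} Bool, (cond b.down U (W : Scheme.{u})) ⟶ X :=
    fun ⟨b⟩ => match b with | true => j | false => W.ι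
  have : ∀ b, IsOpenImmersion (J b) := by
    rintro ⟨_ | _⟩
    · exact inferInstanceAs (IsOpenImmersion W.ι)
    · exact inferInstanceAs (IsOpenImmersion j)
  refine isCoh_of_cover J
    (fun x => ?_) fun ⟨b⟩ => ?_
  · by_cases hx : x ∈ T
    · exact ⟨⟨true⟩, hTU hx⟩
    · exact ⟨⟨false⟩, ⟨⟨x, hx⟩, rfl⟩⟩
  cases b with
  | true => exact isCoh_of_iso (asIso ((Scheme.Modules.restrictAdjunction j).counit.app F)).symm hF
  | false =>
    refine isCoh_of_isZero ?_
    rw [IsZero.iff_id_eq_zero]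
    refine Scheme.Modules.hom_ext _ _ fun V => ?_
    ext s
    refine section_ext (M := F) (U := j ⁻¹ᵁ (W.ι ''ᵁ V)) _ _ fun y hy => ?_
    obtain ⟨z, -, hz⟩ := hy
    exact @Subsingleton.elim _ (not_not.mp fun h => z.2 (by have h1 := hs y h; rw [← hz] at h1; exact h1)) _ _

end Groth.Agent.QCohLib
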