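import Mathlib.RingTheory.Flat.Localization
import Mathlib.AlgebraicGeometry.Modules.Tilde
import Mathlib.AlgebraicGeometry.Spec
import Groth.Prelude.Def_FlatMod2

/-!
# Flatness of `M~` over the base

* `flat_of_isLocalizedModule_tower`: an `S`-localisation of an `R`-flat `S`-module is `R`-flat;
* `isFlatOverAt_tilde_iff`, `isFlatOver_tilde_iff`.
-/

universe u

open CategoryTheory AlgebraicGeometry TensorProduct

set_option backward.isDefEq.respectTransparency false

namespace Groth.Agent.QCohLib

theorem flat_of_isLocalizedModule_tower {R S M M' : Type u} [CommRing R] [CommRing S] [Algebra R S]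
    [AddCommGroup M] [Module R M] [Module S M] [IsScalarTower R S M]
    [AddCommGroup M'] [Module R M'] [Module S M'] [IsScalarTower R S M']
    (p : Submonoid S) (f : M →ₗ[S] M') [IsLocalizedModule p f] [Module.Flat R M] :
    Module.Flat R M' := by
  rw [Module.Flat.iff_lTensor_injectiveₛ]
  intro P _ _ N
  have h : Function.Injective (AlgebraTensorModule.lTensor S M N.subtype) := by
    rw [AlgebraTensorModule.coe_lTensor]
    exact Module.Flat.lTensor_preserves_injective_linearMap N.subtype N.subtype_injective
  have h' := IsLocalizedModule.map_injective p (AlgebraTensorModule.rTensor R _ f)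
    (AlgebraTensorModule.rTensor R _ f) _ h
  simpa [IsLocalizedModule.map_lTensor] using h'

variable {A B : Type u} [CommRing A] [CommRing B] [Algebra A B]
  (M : ModuleCat.{u} (CommRingCat.of B))

/-- `B → O_{Spec B, x}`. -/
noncomputable abbrev toStalkRing (B : Type u) [CommRing B] (x : PrimeSpectrum B) :
    B →+* (Spec (CommRingCat.of B)).presheaf.stalk x :=
  (StructureSheaf.toStalk B x).hom

/-- The stalk of `M~` as an `A`-module. -/
@[reducible]
noncomputable def stalkModuleBase (x : PrimeSpectrum B) :
    Module A ((tilde M).presheaf.stalk x) :=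
  Module.compHom _ ((toStalkRing B x).comp (algebraMap A B))

/-- The stalk of `M~` as a `B`-module. -/
noncomputable instance stalkModuleSelf (x : PrimeSpectrum B) :
    Module B ((tilde M).presheaf.stalk x) :=
  Module.compHom _ (toStalkRing B x)

theorem isFlatOverAt_tilde_iff (x : PrimeSpectrum B) :
    letI := stalkModuleBase (A := A) M x
    FlatMod.IsFlatOverAt (Spec.map (CommRingCat.ofHom (algebraMap A B))) (tilde M) x ↔
      Module.Flat A ((tilde M).presheaf.stalk x) := by
  let := stalkModuleBase (A := A) M x
  let φ := Spec.map (CommRingCat.ofHom (algebraMap A B))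
  let q : PrimeSpectrum A := PrimeSpectrum.comap (algebraMap A B) x
  let := FlatMod.moduleStalkOver φ (tilde M) x
  let : Algebra A ((Spec (CommRingCat.of A)).presheaf.stalk (φ.base x)) :=
    (StructureSheaf.toStalk A q).hom.toAlgebra
  have : IsLocalization q.asIdeal.primeCompl ((Spec (CommRingCat.of A)).presheaf.stalk (φ.base x)) :=
    StructureSheaf.IsLocalization.to_stalk A q
  have : IsScalarTower A ((Spec (CommRingCat.of A)).presheaf.stalk (φ.base x))
      ((tilde M).presheaf.stalk x) := by
    refine IsScalarTower.of_algebraMap_smul fun a m => ?_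
    change (φ.stalkMap x).hom (StructureSheaf.toStalk A q a) • m =
      toStalkRing B x (algebraMap A B a) • m
    exact congrArg (fun r : (Spec (CommRingCat.of B)).presheaf.stalk x => r • m)
      (stalkMap_toStalk_apply (CommRingCat.ofHom (algebraMap A B)) x a)
  exact Module.flat_iff_of_isLocalization _ q.asIdeal.primeCompl _

/-- `M → M~_x`, linear over `B`. -/
noncomputable def toStalkLinear (x : PrimeSpectrum B) : M →ₗ[B] (tilde M).presheaf.stalk x :=
  (tilde.toStalk M x).hom

instance isLocalizedModule_toStalkLinear (x : PrimeSpectrum B) :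
    IsLocalizedModule x.asIdeal.primeCompl (toStalkLinear M x) :=
  inferInstanceAs (IsLocalizedModule x.asIdeal.primeCompl (StructureSheaf.toStalkₗ B M x))

theorem isFlatOver_tilde_iff [Module A M] [IsScalarTower A B M] :
    FlatMod.IsFlatOver (Spec.map (CommRingCat.ofHom (algebraMap A B))) (tilde M) ↔
      Module.Flat A M := by
  have htower : ∀ x : PrimeSpectrum B,
      @IsScalarTower A B ((tilde M).presheaf.stalk x) _ _ (stalkModuleBase (A := A) M x).toSMul :=
    fun x =>
    let := stalkModuleBase (A := A) M x
    IsScalarTower.of_algebraMap_smul fun _ _ => rfl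
  constructor
  · intro h
    refine Module.flat_of_isLocalized_maximal (R := A) B M
      (fun P _ => LocalizedModule P.primeCompl M)
      (fun P _ => LocalizedModule.mkLinearMap _ _) fun P hP => ?_
    let x : PrimeSpectrum B := ⟨P, hP.isPrime⟩
    let := stalkModuleBase (A := A) M x
    have := htower x
    have hx : Module.Flat A ((tilde M).presheaf.stalk x) := (isFlatOverAt_tilde_iff M x).mp (h x)
    exact Module.Flat.of_linearEquiv
      ((@IsLocalizedModule.iso _ _ x.asIdeal.primeCompl _ _ _ _ _ _ (toStalkLinear M x)
        (isLocalizedModule_toStalkLinear M x)).restrictScalars A)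
  · intro h x
    let := stalkModuleBase (A := A) M x
    have := htower x
    have := flat_of_isLocalizedModule_tower (R := A) (S := B) (PrimeSpectrum.asIdeal x).primeCompl
      (toStalkLinear M x)
    exact (isFlatOverAt_tilde_iff M x).mpr this

end Groth.Agent.QCohLib
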